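import Mathlib
import Cfsg.Agent.Helper2.M11_T2a
import Cfsg.Agent.Helper4.Bsw2.ClassMult

/-!
# S3341: sums over the relevant characters of the normalizer
-/

set_option autoImplicit false
set_option linter.style.haveILetI false

namespace Cfsg.Agent.A6U

open Cfsg.Agent.Helper6 Cfsg.Agent.Helper2.BrTI
open scoped ComplexConjugate

universe u

variable {G : Type u} [Group G] (K : Subgroup G)

local notation "NK" => Subgroup.normalizer (K : Set G)

variable [Fintype G]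

/-- the nonrelevant characters: sum of squares of the degrees -/
theorem h4_nonrel_sq [Fintype ↥NK] [Fintype (Cfsg.IrrCharacter ↥NK)]
    [DecidablePred fun χ : Cfsg.IrrCharacter NK => ∀ n ∈ K.subgroupOf NK, (χ : NK → ℂ) n =
      (χ : NK → ℂ) 1] :
    ∑ χ ∈ Finset.univ.filter (fun χ : Cfsg.IrrCharacter NK =>
      ∀ n ∈ K.subgroupOf NK, (χ : NK → ℂ) n = (χ : NK → ℂ) 1),
      ((χ : NK → ℂ) 1) ^ 2 = ((K.subgroupOf NK).index : ℂ) := by
  have hKn : (K.subgroupOf NK).Normal := Subgroup.normal_in_normalizer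
  have h := sum_sq_degrees_of_le_ker (G := NK) (K.subgroupOf NK)
  have h2 := congrArg (fun n : ℕ => (n : ℂ)) h
  simp only [Nat.cast_sum, Nat.cast_pow] at h2
  rw [← h2]
  apply Finset.sum_congr rfl
  intro χ _
  rw [charDegree_cast_of_isCharacter (IsIrrCharacter.isCharacter χ.2)]

omit [Fintype G] in
theorem h4_deg_conj (χ : Cfsg.IrrCharacter NK) : conj ((χ : NK → ℂ) 1) = (χ : NK → ℂ) 1 := by
  obtain ⟨n, hn⟩ := IsCharacter.apply_one (IsIrrCharacter.isCharacter χ.2)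
  rw [hn, Complex.conj_natCast]

/-- a sum over the nonrelevant characters of a function of the values on `K` -/
theorem h4_nonrel_sum [Fintype ↥NK] [Fintype (Cfsg.IrrCharacter ↥NK)]
    [DecidablePred fun χ : Cfsg.IrrCharacter NK => ∀ n ∈ K.subgroupOf NK, (χ : NK → ℂ) n =
      (χ : NK → ℂ) 1]
    (F : Cfsg.IrrCharacter NK → ℂ)
    (hF : ∀ χ : Cfsg.IrrCharacter NK, (∀ n ∈ K.subgroupOf NK, (χ : NK → ℂ) n = (χ : NK → ℂ) 1) →
      F χ = ((χ : NK → ℂ) 1) ^ 2) :
    ∑ χ ∈ Finset.univ.filter (fun χ : Cfsg.IrrCharacter NK =>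
      ∀ n ∈ K.subgroupOf NK, (χ : NK → ℂ) n = (χ : NK → ℂ) 1), F χ =
      ((K.subgroupOf NK).index : ℂ) := by
  rw [← h4_nonrel_sq K]
  apply Finset.sum_congr rfl
  intro χ hχ
  rw [Finset.mem_filter] at hχ
  exact hF χ hχ.2

/-- off-diagonal column orthogonality over the relevant characters -/
theorem h4_rel_offdiag [Fintype ↥NK] [Fintype (Cfsg.IrrCharacter ↥NK)] [Fintype (Rel K)]
    (k k' : NK) (hk : (k : G) ∈ K) (hk' : (k' : G) ∈ K) (hne : ¬ IsConj k k') :
    ∑ η : Rel K, (η.1 : NK → ℂ) k * conj ((η.1 : NK → ℂ) k') =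
      -((K.subgroupOf NK).index : ℂ) := by
  classical
  have h1 := column_orthogonality_aux (G := NK) k k'
  rw [if_neg hne, sum_split K] at h1
  rw [h4_nonrel_sum K (fun χ => (χ : NK → ℂ) k * conj ((χ : NK → ℂ) k')) (by
    intro χ hχ
    rw [hχ k (Subgroup.mem_subgroupOf.mpr hk), hχ k' (Subgroup.mem_subgroupOf.mpr hk'),
      h4_deg_conj, sq])] at h1
  linear_combination h1

/-- the class equation in the normalizer, in terms of the relevant characters -/
theorem h4_rel_triple [Fintype ↥NK] [Fintype (Cfsg.IrrCharacter ↥NK)] [Fintype (Rel K)]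
    (hC : ∀ k ∈ K, k ≠ 1 → Subgroup.centralizer ({k} : Set G) ≤ K)
    (hab : ∀ a ∈ K, ∀ b ∈ K, a * b = b * a)
    (a b c : NK) (ha : (a : G) ∈ K) (hb : (b : G) ∈ K) (hc : (c : G) ∈ K) :
    ∑ χ : Cfsg.IrrCharacter NK, (χ : NK → ℂ) a * (χ : NK → ℂ) b * conj ((χ : NK → ℂ) c) /
        (χ : NK → ℂ) 1 =
      ((K.subgroupOf NK).index : ℂ) +
        (∑ η : Rel K, (η.1 : NK → ℂ) a * (η.1 : NK → ℂ) b * conj ((η.1 : NK → ℂ) c)) /
          ((K.subgroupOf NK).index : ℂ) := by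
  classical
  rw [sum_split K]
  rw [h4_nonrel_sum K (fun χ => (χ : NK → ℂ) a * (χ : NK → ℂ) b * conj ((χ : NK → ℂ) c) /
        (χ : NK → ℂ) 1) (by
    intro χ hχ
    rw [hχ a (Subgroup.mem_subgroupOf.mpr ha), hχ b (Subgroup.mem_subgroupOf.mpr hb),
      hχ c (Subgroup.mem_subgroupOf.mpr hc), h4_deg_conj]
    obtain ⟨n, hn, hn1⟩ := IsIrrCharacter.apply_one_pos χ.2
    have : (χ : NK → ℂ) 1 ≠ 0 := by
      rw [hn1]
      exact_mod_cast hn.ne'
    field_simp)]
  rw [add_comm]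
  congr 1
  rw [Finset.sum_div]
  apply Finset.sum_congr rfl
  intro η _
  rw [(rel_data K hC hab _ η.1.2 η.2).2]

end Cfsg.Agent.A6U
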