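import Mathlib
import Cfsg.Agent.A6U.H4_CharN

/-!
# S3341: the mixed class equation in terms of the exceptional characters
-/

set_option autoImplicit false
set_option linter.style.haveILetI false

namespace Cfsg.Agent.A6U

open Cfsg.Agent.Helper6 Cfsg.Agent.Helper2.BrTI
open scoped ComplexConjugate

universe u

variable {G : Type u} [Group G] {K : Subgroup G}

local notation "NK" => Subgroup.normalizer (K : Set G)

variable [Fintype G]

/-- a relevant character is real on an element conjugate to its inverse -/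
theorem h4_rel_real [Fintype ↥NK] (η : Rel K) (b : NK) (hb : IsConj b b⁻¹) :
    conj ((η.1 : NK → ℂ) b) = (η.1 : NK → ℂ) b := by
  have h1 := IsCharacter.inv_eq_conj (IsIrrCharacter.isCharacter η.1.2) b
  obtain ⟨c, hc⟩ := isConj_iff.mp hb
  have h2 := IsCharacter.isClassFunction (IsIrrCharacter.isCharacter η.1.2) b c
  rw [hc] at h2
  rw [← h1, h2]

/-- the expansion of the exceptional part of the class equation -/
theorem h4_rel_expand [Fintype ↥NK] [Fintype (Cfsg.IrrCharacter ↥NK)] [Fintype (Rel K)]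
    (hC : ∀ k ∈ K, k ≠ 1 → Subgroup.centralizer ({k} : Set G) ≤ K)
    (hab : ∀ a ∈ K, ∀ b ∈ K, a * b = b * a)
    (a b : NK) (ha : (a : G) ∈ K) (hb : (b : G) ∈ K) (ha1 : a ≠ 1) (hb1 : b ≠ 1)
    (hne : ¬ IsConj a b) (hbr : IsConj b b⁻¹) (ε m : ℂ) (hε : ε * ε = 1) (hεc : conj ε = ε)
    (hmc : conj m = m) :
    ∑ η : Rel K, (ε * (η.1 : NK → ℂ) a + m) * (ε * (η.1 : NK → ℂ) b + m) *
        conj (ε * (η.1 : NK → ℂ) a + m) =
      ε * (∑ η : Rel K, (η.1 : NK → ℂ) a * (η.1 : NK → ℂ) b * conj ((η.1 : NK → ℂ) a)) +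
        m * ((Nat.card K : ℂ) - 3 * ((K.subgroupOf NK).index : ℂ)) - 3 * ε * m ^ 2 +
        (Nat.card (Rel K) : ℂ) * m ^ 3 := by
  classical
  obtain ⟨hA1, hAA, -⟩ := nside K hC hab a ha ha1
  obtain ⟨hB1, -, -⟩ := nside K hC hab b hb hb1
  have hBA := h4_rel_offdiag K b a hb ha (fun h => hne h.symm)
  have hAB := h4_rel_offdiag K a b ha hb hne
  have hAB' : ∑ η : Rel K, (η.1 : NK → ℂ) a * (η.1 : NK → ℂ) b =
      -((K.subgroupOf NK).index : ℂ) := by
    rw [← hAB]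
    apply Finset.sum_congr rfl
    intro η _
    rw [h4_rel_real η b hbr]
  have hAc : ∑ η : Rel K, conj ((η.1 : NK → ℂ) a) = -1 := by
    rw [← map_sum, hA1]
    simp
  have hterm : ∀ η : Rel K, (ε * (η.1 : NK → ℂ) a + m) * (ε * (η.1 : NK → ℂ) b + m) *
        conj (ε * (η.1 : NK → ℂ) a + m) =
      ε * ((η.1 : NK → ℂ) a * (η.1 : NK → ℂ) b * conj ((η.1 : NK → ℂ) a)) +
      m * ((η.1 : NK → ℂ) a * (η.1 : NK → ℂ) b +
        (η.1 : NK → ℂ) a * conj ((η.1 : NK → ℂ) a) +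
        (η.1 : NK → ℂ) b * conj ((η.1 : NK → ℂ) a)) +
      ε * m ^ 2 * ((η.1 : NK → ℂ) a + (η.1 : NK → ℂ) b + conj ((η.1 : NK → ℂ) a)) + m ^ 3 := by
    intro η
    rw [map_add, map_mul, hεc, hmc]
    linear_combination ((η.1 : NK → ℂ) a * (η.1 : NK → ℂ) b * conj ((η.1 : NK → ℂ) a) * ε +
      m * ((η.1 : NK → ℂ) a * (η.1 : NK → ℂ) b +
        (η.1 : NK → ℂ) a * conj ((η.1 : NK → ℂ) a) +
        (η.1 : NK → ℂ) b * conj ((η.1 : NK → ℂ) a))) * hε
  rw [Finset.sum_congr rfl (fun η _ => hterm η)]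
  simp only [Finset.sum_add_distrib, ← Finset.mul_sum, Finset.sum_const, Finset.card_univ,
    nsmul_eq_mul]
  rw [hAB', hAA, hBA, hA1, hB1, hAc, Nat.card_eq_fintype_card (α := Rel K)]
  ring

/-- splitting a sum over the irreducible characters of `G` into exceptional and nonexceptional
ones -/
theorem h4_sum_irr_split (D : Data K) [Fintype (Rel K)] [Fintype (Cfsg.IrrCharacter G)]
    (F : Cfsg.IrrCharacter G → ℂ)
    [DecidablePred fun χ : Cfsg.IrrCharacter G => ∀ η : Rel K, D.f η ≠ χ] :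
    ∑ χ, F χ = ∑ η : Rel K, F (D.f η) +
      ∑ χ ∈ Finset.univ.filter (fun χ : Cfsg.IrrCharacter G => ∀ η : Rel K, D.f η ≠ χ), F χ := by
  classical
  rw [← Finset.sum_filter_add_sum_filter_not Finset.univ
    (fun χ : Cfsg.IrrCharacter G => ∃ η : Rel K, D.f η = χ) F]
  congr 1
  · have himg : Finset.univ.filter (fun χ : Cfsg.IrrCharacter G => ∃ η : Rel K, D.f η = χ) =
        Finset.univ.image D.f := by
      ext χ
      simp
    rw [himg, Finset.sum_image (fun x _ y _ h => D.hf h)]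
  · apply Finset.sum_congr _ (fun _ _ => rfl)
    ext χ
    simp

/-- the class sum over the irreducible characters of `G` -/
theorem h4_G_triple (D : Data K) [Fintype ↥NK] [Fintype (Rel K)] [Fintype (Cfsg.IrrCharacter G)]
    (m : ℤ) (c : Cfsg.IrrCharacter G → ℤ)
    (hexc : ∀ η : Rel K, ∀ k : NK, (k : G) ∈ K → k ≠ 1 →
      (D.f η : G → ℂ) k = D.ε * (η.1 : NK → ℂ) k + m)
    (hc0 : ∀ η : Rel K, c (D.f η) = 0)
    (hnon : ∀ χ : Cfsg.IrrCharacter G, (∀ η : Rel K, D.f η ≠ χ) →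
      ∀ k : NK, (k : G) ∈ K → k ≠ 1 → (χ : G → ℂ) k = c χ)
    (η₀ : Rel K) (a b : NK) (ha : (a : G) ∈ K) (hb : (b : G) ∈ K) (ha1 : a ≠ 1) (hb1 : b ≠ 1) :
    ∑ χ : Cfsg.IrrCharacter G, (χ : G → ℂ) a * (χ : G → ℂ) b * conj ((χ : G → ℂ) a) /
        (χ : G → ℂ) 1 =
      ∑ χ : Cfsg.IrrCharacter G, ((c χ : ℤ) : ℂ) ^ 3 / (χ : G → ℂ) 1 +
      (∑ η : Rel K, (D.ε * (η.1 : NK → ℂ) a + m) * (D.ε * (η.1 : NK → ℂ) b + m) *
        conj (D.ε * (η.1 : NK → ℂ) a + m)) / (D.f η₀ : G → ℂ) 1 := by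
  classical
  rw [h4_sum_irr_split D, h4_sum_irr_split D
    (fun χ : Cfsg.IrrCharacter G => ((c χ : ℤ) : ℂ) ^ 3 / (χ : G → ℂ) 1)]
  have h1 : ∑ η : Rel K, ((c (D.f η) : ℤ) : ℂ) ^ 3 / (D.f η : G → ℂ) 1 = 0 := by
    apply Finset.sum_eq_zero
    intro η _
    rw [hc0 η]
    simp
  rw [h1, zero_add, add_comm]
  congr 1
  · apply Finset.sum_congr rfl
    intro χ hχ
    rw [Finset.mem_filter] at hχ
    rw [hnon χ hχ.2 a ha ha1, hnon χ hχ.2 b hb hb1]
    congr 1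
    rw [map_intCast]
    ring
  · rw [Finset.sum_div]
    apply Finset.sum_congr rfl
    intro η _
    rw [hexc η a ha ha1, hexc η b hb hb1, D.deg_eq η η₀]

end Cfsg.Agent.A6U
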