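import Mathlib
import Cfsg.Agent.A6U.H4_CharG

/-!
# S3341: the packaged mixed class equation
-/

set_option autoImplicit false
set_option linter.style.haveILetI false

namespace Cfsg.Agent.A6U

open Cfsg.Agent.Helper6 Cfsg.Agent.Helper2.BrTI
open scoped ComplexConjugate

universe u

variable {G : Type u} [Group G] {K : Subgroup G}

local notation "NK" => Subgroup.normalizer (K : Set G)

variable [Fintype G]

/-- the size of the class in `G` of a nonidentity element of `K` -/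
theorem h4_card_classG (hC : ∀ k ∈ K, k ≠ 1 → Subgroup.centralizer ({k} : Set G) ≤ K)
    (hab : ∀ a ∈ K, ∀ b ∈ K, a * b = b * a) (k : G) (hk : k ∈ K) (hk1 : k ≠ 1) :
    ((classFinset k).card : ℂ) * (Nat.card K : ℂ) = (Nat.card G : ℂ) := by
  rw [card_classFinset, centralizer_eq K hC hab k hk hk1]
  have h := Subgroup.card_mul_index K
  have h2 := congrArg (fun n : ℕ => (n : ℂ)) h
  simp only [Nat.cast_mul] at h2
  rw [← h2]
  ring

/-- the size of the class in the normalizer of a nonidentity element of `K` -/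
theorem h4_card_classN [Fintype ↥NK]
    (hC : ∀ k ∈ K, k ≠ 1 → Subgroup.centralizer ({k} : Set G) ≤ K)
    (hab : ∀ a ∈ K, ∀ b ∈ K, a * b = b * a) (k : NK) (hk : (k : G) ∈ K) (hk1 : k ≠ 1) :
    (classFinset k).card = (K.subgroupOf NK).index := by
  rw [card_classFinset, centralizer_in_normalizer K hC hab k hk hk1]

/-- the mixed class equation -/
theorem h4_class_eq (D : Data K) [Fintype ↥NK] [Fintype (Cfsg.IrrCharacter ↥NK)] [Fintype (Rel K)]
    [Fintype (Cfsg.IrrCharacter G)] [DecidableEq G]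
    (m : ℤ) (c : Cfsg.IrrCharacter G → ℤ)
    (hexc : ∀ η : Rel K, ∀ k : NK, (k : G) ∈ K → k ≠ 1 →
      (D.f η : G → ℂ) k = D.ε * (η.1 : NK → ℂ) k + m)
    (hc0 : ∀ η : Rel K, c (D.f η) = 0)
    (hnon : ∀ χ : Cfsg.IrrCharacter G, (∀ η : Rel K, D.f η ≠ χ) →
      ∀ k : NK, (k : G) ∈ K → k ≠ 1 → (χ : G → ℂ) k = c χ)
    (η₀ : Rel K) (a b : NK) (ha : (a : G) ∈ K) (hb : (b : G) ∈ K) (ha1 : a ≠ 1) (hb1 : b ≠ 1)
    (hne : ¬ IsConj a b) (hbr : IsConj b b⁻¹) (nG nN : ℂ)
    (hcG : ∑ x ∈ classFinset (a : G), ∑ y ∈ classFinset (b : G),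
      (if x * y = (a : G) then (1 : ℂ) else 0) = nG)
    (hcN : ∑ x ∈ classFinset a, ∑ y ∈ classFinset b,
      (if x * y = a then (1 : ℂ) else 0) = nN) :
    nG * (Nat.card K : ℂ) ^ 2 / (Nat.card G : ℂ) =
      ∑ χ : Cfsg.IrrCharacter G, ((c χ : ℤ) : ℂ) ^ 3 / (χ : G → ℂ) 1 +
      (D.ε * ((Nat.card K : ℂ) * nN - ((K.subgroupOf NK).index : ℂ) ^ 2) +
        (m : ℂ) * ((Nat.card K : ℂ) - 3 * ((K.subgroupOf NK).index : ℂ)) -
        3 * D.ε * (m : ℂ) ^ 2 + (Nat.card (Rel K) : ℂ) * (m : ℂ) ^ 3) /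
        (D.f η₀ : G → ℂ) 1 := by
  classical
  have hepos : 0 < (K.subgroupOf NK).index := Nat.pos_of_ne_zero Subgroup.index_ne_zero_of_finite
  have heC : ((K.subgroupOf NK).index : ℂ) ≠ 0 := by exact_mod_cast hepos.ne'
  have hKpos : 0 < Nat.card K := Nat.card_pos
  have hKC : (Nat.card K : ℂ) ≠ 0 := by exact_mod_cast hKpos.ne'
  have hGC : (Nat.card G : ℂ) ≠ 0 := by
    have : 0 < Nat.card G := Nat.card_pos
    exact_mod_cast this.ne'
  have ha1' : (a : G) ≠ 1 := fun h => ha1 (Subtype.ext h)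
  have hb1' : (b : G) ≠ 1 := fun h => hb1 (Subtype.ext h)
  -- the G side
  have hG := Cfsg.Agent.Helper4.Bsw2.class_mult_count (a : G) (b : G) (a : G)
  rw [hcG, h4_G_triple D m c hexc hc0 hnon η₀ a b ha hb ha1 hb1,
    h4_rel_expand D.hC D.hab a b ha hb ha1 hb1 hne hbr D.ε (m : ℂ) D.eps_sq D.eps_conj
      (by rw [map_intCast])] at hG
  have hca := h4_card_classG D.hC D.hab (a : G) ha ha1'
  have hcb := h4_card_classG D.hC D.hab (b : G) hb hb1'
  -- the N side
  have hN := Cfsg.Agent.Helper4.Bsw2.class_mult_count a b a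
  rw [hcN, h4_rel_triple K D.hC D.hab a b a ha hb ha, h4_card_classN D.hC D.hab a ha ha1,
    h4_card_classN D.hC D.hab b hb hb1] at hN
  have hcardN : (Nat.card NK : ℂ) = ((K.subgroupOf NK).index : ℂ) * (Nat.card K : ℂ) := by
    have h := Subgroup.card_mul_index (K.subgroupOf NK)
    rw [card_subgroupOf_normalizer] at h
    have h2 := congrArg (fun n : ℕ => (n : ℂ)) h
    simp only [Nat.cast_mul] at h2
    rw [← h2]
    ring
  rw [hcardN] at hN
  -- T3
  set T3 : ℂ := ∑ η : Rel K, (η.1 : NK → ℂ) a * (η.1 : NK → ℂ) b * conj ((η.1 : NK → ℂ) a)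
    with hT3
  have hT3v : T3 = (Nat.card K : ℂ) * nN - ((K.subgroupOf NK).index : ℂ) ^ 2 := by
    have h1 : nN * (Nat.card K : ℂ) = ((K.subgroupOf NK).index : ℂ) ^ 2 + T3 := by
      rw [hN]
      field_simp
    linear_combination -h1
  have hcaa : ((classFinset (a : G)).card : ℂ) = (Nat.card G : ℂ) / (Nat.card K : ℂ) := by
    field_simp
    exact hca
  have hcbb : ((classFinset (b : G)).card : ℂ) = (Nat.card G : ℂ) / (Nat.card K : ℂ) := by
    field_simp
    exact hcb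
  rw [hcaa, hcbb, hT3v] at hG
  rw [hG]
  field_simp

end Cfsg.Agent.A6U
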