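import Mathlib
set_option autoImplicit false
namespace Cfsg.Agent.A6U

/-- R5a: the case e = 2. -/
theorem arith2 (f d : ℕ) (e1 ep : ℤ) (he1 : e1 = 1 ∨ e1 = -1) (hep : ep = 1 ∨ ep = -1)
    (hf : 2 ≤ f) (hd : 1 ≤ d) (hdeg : 1 + e1 * (f : ℤ) = ep * (d : ℤ))
    (hcls : (1 : ℚ) + (e1 : ℚ) / (f : ℚ) - 4 * (ep : ℚ) / (d : ℚ) = 0) : False := by
  have hf0 : (f : ℚ) ≠ 0 := Nat.cast_ne_zero.mpr (by omega)
  have hd0 : (d : ℚ) ≠ 0 := Nat.cast_ne_zero.mpr (by omega)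
  have h1 : (f : ℚ) * d + e1 * d - 4 * ep * f = 0 := by
    have h := congrArg (fun x : ℚ => x * ((f : ℚ) * d)) hcls
    simp only [zero_mul] at h
    rw [← h]
    field_simp
  have h2 : (f : ℤ) * d + e1 * d - 4 * ep * f = 0 := by exact_mod_cast h1
  have hf' : (2 : ℤ) ≤ (f : ℤ) := by exact_mod_cast hf
  have hd' : (1 : ℤ) ≤ (d : ℤ) := by exact_mod_cast hd
  rcases he1 with rfl | rfl <;> rcases hep with rfl | rfl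
  · have h3 : (d : ℤ) = 1 + f := by linarith
    rw [h3] at h2
    nlinarith
  · linarith
  · linarith
  · have h3 : (d : ℤ) = f - 1 := by linarith
    rw [h3] at h2
    nlinarith

theorem h1_frac_lb (e : ℤ) (f : ℕ) (he : e = 1 ∨ e = -1) (hf : 8 ≤ f) :
    (-1 / 8 : ℚ) ≤ (e : ℚ) / (f : ℚ) := by
  have hf' : (8 : ℚ) ≤ (f : ℚ) := by exact_mod_cast hf
  have hpos : (0 : ℚ) < (f : ℚ) := by linarith
  rw [le_div_iff₀ hpos]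
  rcases he with rfl | rfl
  · push_cast; linarith
  · push_cast; linarith

theorem h1_frac_lb2 (e : ℤ) (d : ℕ) (he : e = 1 ∨ e = -1) (hd : 4 ≤ d) :
    (-1 / 2 : ℚ) ≤ 2 * (e : ℚ) / (d : ℚ) := by
  have hd' : (4 : ℚ) ≤ (d : ℚ) := by exact_mod_cast hd
  have hpos : (0 : ℚ) < (d : ℚ) := by linarith
  rw [le_div_iff₀ hpos]
  rcases he with rfl | rfl
  · push_cast; linarith
  · push_cast; linarith

set_option maxHeartbeats 4000000 in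
set_option maxRecDepth 100000 in
theorem h1_arith4_core (g f1 f2 f3 e1 e2 e3 : ℤ)
    (h1 : (e1 = 1 ∧ (f1 = 10 ∨ f1 = 19 ∨ f1 = 28)) ∨
      (e1 = -1 ∧ (f1 = 8 ∨ f1 = 17 ∨ f1 = 26 ∨ f1 = 35)))
    (h2 : (e2 = 1 ∧ (f2 = 10 ∨ f2 = 19 ∨ f2 = 28)) ∨
      (e2 = -1 ∧ (f2 = 8 ∨ f2 = 17 ∨ f2 = 26 ∨ f2 = 35)))
    (h3 : (e3 = 1 ∧ (f3 = 10 ∨ f3 = 19 ∨ f3 = 28)) ∨
      (e3 = -1 ∧ (f3 = 8 ∨ f3 = 17 ∨ f3 = 26 ∨ f3 = 35)))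
    (heq : g * (f1 * f2 * f3 * (1 + e1 * f1 + e2 * f2 + e3 * f3)
        + (e1 * f2 * f3 + e2 * f1 * f3 + e3 * f1 * f2) * (1 + e1 * f1 + e2 * f2 + e3 * f3)
        + 2 * (f1 * f2 * f3))
      = 162 * (f1 * f2 * f3) * (1 + e1 * f1 + e2 * f2 + e3 * f3))
    (hsq : 1 + f1 ^ 2 + f2 ^ 2 + f3 ^ 2 + 2 * (1 + e1 * f1 + e2 * f2 + e3 * f3) ^ 2 ≤ g) :
    g = 360 := by
  rcases h1 with ⟨rfl, rfl | rfl | rfl⟩ | ⟨rfl, rfl | rfl | rfl | rfl⟩ <;>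
  rcases h2 with ⟨rfl, rfl | rfl | rfl⟩ | ⟨rfl, rfl | rfl | rfl | rfl⟩ <;>
  rcases h3 with ⟨rfl, rfl | rfl | rfl⟩ | ⟨rfl, rfl | rfl | rfl | rfl⟩ <;>
  (norm_num at heq hsq; omega)

/-- R5b: the case e = 4. -/
theorem arith4 (g f1 f2 f3 d : ℕ) (e1 e2 e3 ep : ℤ)
    (he1 : e1 = 1 ∨ e1 = -1) (he2 : e2 = 1 ∨ e2 = -1) (he3 : e3 = 1 ∨ e3 = -1)
    (hep : ep = 1 ∨ ep = -1)
    (hf1 : 2 ≤ f1) (hf2 : 2 ≤ f2) (hf3 : 2 ≤ f3) (hd : 2 ≤ d)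
    (hc1 : (9 : ℤ) ∣ (f1 : ℤ) - e1) (hc2 : (9 : ℤ) ∣ (f2 : ℤ) - e2) (hc3 : (9 : ℤ) ∣ (f3 : ℤ) - e3)
    (hcd : (9 : ℤ) ∣ (d : ℤ) - 4 * ep)
    (hdeg : 1 + e1 * (f1 : ℤ) + e2 * (f2 : ℤ) + e3 * (f3 : ℤ) = ep * (d : ℤ))
    (hcls : (g : ℚ) * (1 + (e1 : ℚ) / (f1 : ℚ) + (e2 : ℚ) / (f2 : ℚ) + (e3 : ℚ) / (f3 : ℚ)
      + 2 * (ep : ℚ) / (d : ℚ)) = 162)
    (hsq : 1 + f1 ^ 2 + f2 ^ 2 + f3 ^ 2 + 2 * d ^ 2 ≤ g) : g = 360 := by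
  -- lower bounds from the congruences
  have hf1' : 8 ≤ f1 := by omega
  have hf2' : 8 ≤ f2 := by omega
  have hf3' : 8 ≤ f3 := by omega
  have hd' : 4 ≤ d := by omega
  -- the bound g ≤ 1296
  have hg : g ≤ 1296 := by
    have b1 := h1_frac_lb e1 f1 he1 hf1'
    have b2 := h1_frac_lb e2 f2 he2 hf2'
    have b3 := h1_frac_lb e3 f3 he3 hf3'
    have b4 := h1_frac_lb2 ep d hep hd'
    have hF : (1 / 8 : ℚ) ≤ 1 + (e1 : ℚ) / (f1 : ℚ) + (e2 : ℚ) / (f2 : ℚ) + (e3 : ℚ) / (f3 : ℚ)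
        + 2 * (ep : ℚ) / (d : ℚ) := by linarith
    have hg0 : (0 : ℚ) ≤ (g : ℚ) := Nat.cast_nonneg g
    have h := mul_le_mul_of_nonneg_left hF hg0
    rw [hcls] at h
    have h' : (g : ℚ) ≤ 1296 := by linarith
    exact_mod_cast h'
  -- upper bounds
  have hf1u : f1 ≤ 35 := by nlinarith
  have hf2u : f2 ≤ 35 := by nlinarith
  have hf3u : f3 ≤ 35 := by nlinarith
  -- integer form of the class equation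
  have hf10 : (f1 : ℚ) ≠ 0 := Nat.cast_ne_zero.mpr (by omega)
  have hf20 : (f2 : ℚ) ≠ 0 := Nat.cast_ne_zero.mpr (by omega)
  have hf30 : (f3 : ℚ) ≠ 0 := Nat.cast_ne_zero.mpr (by omega)
  have hd0 : (d : ℚ) ≠ 0 := Nat.cast_ne_zero.mpr (by omega)
  have hq : (g : ℚ) * ((f1 : ℚ) * f2 * f3 * d + (e1 * f2 * f3 + e2 * f1 * f3 + e3 * f1 * f2) * d
      + 2 * ep * ((f1 : ℚ) * f2 * f3)) = 162 * ((f1 : ℚ) * f2 * f3) * d := by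
    have h : 162 * ((f1 : ℚ) * f2 * f3) * d = (g : ℚ) * (1 + (e1 : ℚ) / (f1 : ℚ)
        + (e2 : ℚ) / (f2 : ℚ) + (e3 : ℚ) / (f3 : ℚ) + 2 * (ep : ℚ) / (d : ℚ))
        * ((f1 : ℚ) * f2 * f3 * d) := by
      rw [hcls]; ring
    rw [h]
    field_simp
    ring
  have hz : (g : ℤ) * ((f1 : ℤ) * f2 * f3 * d + (e1 * f2 * f3 + e2 * f1 * f3 + e3 * f1 * f2) * d
      + 2 * ep * ((f1 : ℤ) * f2 * f3)) = 162 * ((f1 : ℤ) * f2 * f3) * d := by exact_mod_cast hq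
  have hep2 : ep ^ 2 = 1 := by rcases hep with rfl | rfl <;> norm_num
  have hm2 : (1 + e1 * (f1 : ℤ) + e2 * (f2 : ℤ) + e3 * (f3 : ℤ)) ^ 2 = (d : ℤ) ^ 2 := by
    rw [hdeg, mul_pow, hep2, one_mul]
  have hsqz : (1 : ℤ) + (f1 : ℤ) ^ 2 + (f2 : ℤ) ^ 2 + (f3 : ℤ) ^ 2 + 2 * (d : ℤ) ^ 2 ≤ (g : ℤ) := by
    exact_mod_cast hsq
  have hres : (g : ℤ) = 360 := by
    apply h1_arith4_core (g : ℤ) f1 f2 f3 e1 e2 e3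
    · omega
    · omega
    · omega
    · rw [hdeg]
      linear_combination ep * hz + (-2 * (g : ℤ) * ((f1 : ℤ) * f2 * f3)) * hep2
    · rw [hm2]; exact hsqz
  exact_mod_cast hres

end Cfsg.Agent.A6U
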