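import Mathlib
import Cfsg.Agent.A6U.H4_ClassEq
import Cfsg.Agent.A6U.R5_Arith
import Cfsg.Agent.Helper2.BrTIF

/-!
# S3341: the cases `e = 1` and `e = 2`
-/

set_option autoImplicit false
set_option linter.style.haveILetI false

namespace Cfsg.Agent.A6U

open Cfsg.Agent.Helper6 Cfsg.Agent.Helper2.BrTI
open scoped ComplexConjugate

universe u

variable {G : Type u} [Group G] [Fintype G] {K : Subgroup G}

local notation "NK" => Subgroup.normalizer (K : Set G)

/-- the degree of the trivial character -/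
theorem h4_charDegree_one : Cfsg.charDegree (fun _ : G => (1 : ℂ)) = 1 := by
  have h := charDegree_cast_of_isCharacter (G := G) isCharacter_one
  exact_mod_cast h

/-- there is a nonidentity element of `K` in the normalizer -/
theorem h4_exists_ne_one (hK2 : 2 ≤ Nat.card K) : ∃ k₀ : ↥NK, (k₀ : G) ∈ K ∧ k₀ ≠ 1 := by
  have h1 : 1 < Nat.card (K.subgroupOf NK) := by rw [card_subgroupOf_normalizer]; omega
  haveI : Nontrivial (K.subgroupOf NK) := (Finite.one_lt_card_iff_nontrivial).mp h1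
  obtain ⟨k, hk⟩ := exists_ne (1 : K.subgroupOf NK)
  exact ⟨k.1, Subgroup.mem_subgroupOf.mp k.2, fun h => hk (Subtype.ext h)⟩

/-- the number of relevant characters -/
theorem h4_card_rel (D : Data K) [Fintype ↥NK] [Fintype (Cfsg.IrrCharacter ↥NK)] [Fintype (Rel K)]
    (hK9 : Nat.card K = 9) :
    Nat.card (Rel K) * (K.subgroupOf NK).index = 8 := by
  obtain ⟨k₀, hk₀K, hk₀1⟩ := h4_exists_ne_one (K := K) (by omega)
  obtain ⟨-, -, hcard⟩ := nside K D.hC D.hab k₀ hk₀K hk₀1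
  omega

/-- the case `e = 1` -/
theorem case_one (D : Data K) [Fintype ↥NK] [Fintype (Cfsg.IrrCharacter ↥NK)] [Fintype (Rel K)]
    [Fintype (Cfsg.IrrCharacter G)] (hK9 : Nat.card K = 9)
    (he : (K.subgroupOf NK).index = 1)
    (hdeg2 : ∀ χ : Cfsg.IrrCharacter G, χ ≠ ⟨fun _ => 1, isIrrCharacter_one⟩ →
      2 ≤ Cfsg.charDegree (χ : G → ℂ)) : False := by
  classical
  have ht := h4_card_rel D hK9
  rw [he, mul_one] at ht
  obtain ⟨εz, m, c, hεz, -, -, -, -, hc1, hne1, hsq, hdeg, -⟩ :=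
    Cfsg.Agent.Helper2.M11.data_main3 D 1 he (by omega) (by omega)
  rw [ht] at hsq hdeg
  have hge : (1 : ℤ) ≤ ∑ χ, c χ ^ 2 := by
    have h1 : c ⟨fun _ => 1, isIrrCharacter_one⟩ ^ 2 ≤ ∑ χ, c χ ^ 2 :=
      Finset.single_le_sum (f := fun χ => c χ ^ 2) (fun χ _ => sq_nonneg (c χ))
        (Finset.mem_univ _)
    rw [hc1] at h1
    linarith
  have hm0 : m = 0 := by
    rw [hsq] at hge
    push_cast at hge
    rcases hεz with h | h <;> rw [h] at hge <;> nlinarith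
  rw [hm0] at hsq hdeg
  have hsq1 : ∑ χ, c χ ^ 2 = 1 := by rw [hsq]; push_cast; ring
  obtain ⟨i₁, -, hi₁, hrest⟩ := norm_one Finset.univ c hsq1
  have hi₁eq : i₁ = ⟨fun _ => 1, isIrrCharacter_one⟩ := by
    by_contra hne
    have := hrest ⟨fun _ => 1, isIrrCharacter_one⟩ (Finset.mem_univ _) (fun h => hne h.symm)
    rw [hc1] at this
    omega
  obtain ⟨η₀⟩ : Nonempty (Rel K) := by
    have : 0 < Nat.card (Rel K) := by omega
    exact (Nat.card_pos_iff.mp this).1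
  have hd := hdeg η₀
  have hsum : ∑ χ, c χ * (Cfsg.charDegree (χ : G → ℂ) : ℤ) = 1 := by
    rw [Finset.sum_eq_single i₁]
    · rw [hi₁eq, hc1]
      simp only [one_mul]
      have := h4_charDegree_one (G := G)
      exact_mod_cast this
    · intro j _ hj
      rw [hrest j (Finset.mem_univ _) hj, zero_mul]
    · intro h
      exact absurd (Finset.mem_univ _) h
  rw [hsum] at hd
  have h2 := hdeg2 (D.f η₀) (hne1 η₀)
  have h2' : (2 : ℤ) ≤ (Cfsg.charDegree (D.f η₀ : G → ℂ) : ℤ) := by exact_mod_cast h2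
  rcases hεz with h | h <;> rw [h] at hd <;> push_cast at hd <;> nlinarith

/-- the case `e = 2` -/
theorem case_two (D : Data K) [Fintype ↥NK] [Fintype (Cfsg.IrrCharacter ↥NK)] [Fintype (Rel K)]
    [Fintype (Cfsg.IrrCharacter G)] [DecidableEq G] (hK9 : Nat.card K = 9)
    (he : (K.subgroupOf NK).index = 2)
    (hdeg2 : ∀ χ : Cfsg.IrrCharacter G, χ ≠ ⟨fun _ => 1, isIrrCharacter_one⟩ →
      2 ≤ Cfsg.charDegree (χ : G → ℂ))
    (a b : NK) (ha : (a : G) ∈ K) (hb : (b : G) ∈ K) (ha1 : a ≠ 1) (hb1 : b ≠ 1)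
    (hne : ¬ IsConj a b) (hbr : IsConj b b⁻¹)
    (hcG : ∑ x ∈ classFinset (a : G), ∑ y ∈ classFinset (b : G),
      (if x * y = (a : G) then (1 : ℂ) else 0) = 0)
    (hcN : ∑ x ∈ classFinset a, ∑ y ∈ classFinset b,
      (if x * y = a then (1 : ℂ) else 0) = 0) : False := by
  classical
  have ht := h4_card_rel D hK9
  rw [he] at ht
  have ht4 : Nat.card (Rel K) = 4 := by omega
  obtain ⟨εz, m, c, hεz, hεC, hexc, hc0, hnon, hc1, hne1, hsq, hdeg, -⟩ :=
    Cfsg.Agent.Helper2.M11.data_main3 D 2 he (by omega) (by omega)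
  rw [ht4] at hsq hdeg
  have hge : (1 : ℤ) ≤ ∑ χ, c χ ^ 2 := by
    have h1 : c ⟨fun _ => 1, isIrrCharacter_one⟩ ^ 2 ≤ ∑ χ, c χ ^ 2 :=
      Finset.single_le_sum (f := fun χ => c χ ^ 2) (fun χ _ => sq_nonneg (c χ))
        (Finset.mem_univ _)
    rw [hc1] at h1
    linarith
  have hm0 : m = 0 := by
    rw [hsq] at hge
    push_cast at hge
    rcases hεz with h | h <;> rw [h] at hge <;> nlinarith
  obtain ⟨η₀⟩ : Nonempty (Rel K) := by
    have : 0 < Nat.card (Rel K) := by omega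
    exact (Nat.card_pos_iff.mp this).1
  -- the class equation
  have hcls := h4_class_eq D m c hexc hc0 (fun χ h => (hnon χ h).1) η₀ a b ha hb ha1 hb1 hne hbr
    0 0 hcG hcN
  rw [hm0] at hsq hdeg hcls
  have hsq2 : ∑ χ, c χ ^ 2 = 2 := by rw [hsq]; push_cast; ring
  -- the support of c
  set i₀ : Cfsg.IrrCharacter G := ⟨fun _ => 1, isIrrCharacter_one⟩ with hi₀
  have hsq1 : ∑ χ ∈ Finset.univ.erase i₀, c χ ^ 2 = 1 := by
    rw [← Finset.add_sum_erase Finset.univ _ (Finset.mem_univ i₀), hc1] at hsq2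
    linarith
  obtain ⟨i₁, hi₁, hci₁, hrest⟩ := norm_one _ c hsq1
  have hi₁ne : i₁ ≠ i₀ := (Finset.mem_erase.mp hi₁).1
  have hsupp : ∀ j, j ≠ i₀ → j ≠ i₁ → c j = 0 := fun j h0 h1 =>
    hrest j (Finset.mem_erase.mpr ⟨h0, Finset.mem_univ _⟩) h1
  have hsumZ : ∀ w : Cfsg.IrrCharacter G → ℤ, ∑ χ, c χ * w χ = w i₀ + c i₁ * w i₁ := by
    intro w
    rw [← Finset.add_sum_erase Finset.univ _ (Finset.mem_univ i₀), hc1, one_mul,
      ← Finset.add_sum_erase _ _ hi₁, Finset.sum_eq_zero, add_zero]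
    intro j hj
    rw [hsupp j (Finset.mem_erase.mp (Finset.mem_erase.mp hj).2).1 (Finset.mem_erase.mp hj).1,
      zero_mul]
  have hsumC : ∑ χ : Cfsg.IrrCharacter G, ((c χ : ℤ) : ℂ) ^ 3 / (χ : G → ℂ) 1 =
      1 + ((c i₁ : ℤ) : ℂ) / (Cfsg.charDegree (i₁ : G → ℂ) : ℂ) := by
    rw [← Finset.add_sum_erase Finset.univ _ (Finset.mem_univ i₀), hc1,
      ← Finset.add_sum_erase _ _ hi₁, Finset.sum_eq_zero, add_zero]
    · congr 1
      · simp [hi₀]
      · rw [charDegree_cast_of_isCharacter (IsIrrCharacter.isCharacter i₁.2)]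
        congr 1
        rcases hci₁ with h | h <;> rw [h] <;> norm_num
    · intro j hj
      rw [hsupp j (Finset.mem_erase.mp (Finset.mem_erase.mp hj).2).1 (Finset.mem_erase.mp hj).1]
      simp
  have hd := hdeg η₀
  rw [hsumZ] at hd
  have hdeg0 : (Cfsg.charDegree (i₀ : G → ℂ) : ℤ) = 1 := by
    have := h4_charDegree_one (G := G)
    exact_mod_cast this
  rw [hdeg0] at hd
  rw [hsumC, hK9, he, ← charDegree_cast_of_isCharacter (IsIrrCharacter.isCharacter (D.f η₀).2),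
    ← hεC] at hcls
  have hf2 := hdeg2 i₁ hi₁ne
  have hd2 := hdeg2 (D.f η₀) (hne1 η₀)
  apply arith2 (Cfsg.charDegree (i₁ : G → ℂ)) (Cfsg.charDegree (D.f η₀ : G → ℂ)) (c i₁) εz
    hci₁ hεz hf2 (by omega)
  · rw [hd]; push_cast; ring
  · have hfC : ((Cfsg.charDegree (i₁ : G → ℂ) : ℕ) : ℂ) ≠ 0 := by
      have : 0 < Cfsg.charDegree (i₁ : G → ℂ) := by omega
      exact_mod_cast this.ne'
    have hdC : ((Cfsg.charDegree (D.f η₀ : G → ℂ) : ℕ) : ℂ) ≠ 0 := by
      have : 0 < Cfsg.charDegree (D.f η₀ : G → ℂ) := by omega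
      exact_mod_cast this.ne'
    have h1 : (((1 : ℚ) + (c i₁ : ℚ) / (Cfsg.charDegree (i₁ : G → ℂ) : ℚ) -
        4 * (εz : ℚ) / (Cfsg.charDegree (D.f η₀ : G → ℂ) : ℚ) : ℚ) : ℂ) = 0 := by
      push_cast
      push_cast at hcls
      linear_combination -hcls
    exact_mod_cast h1

end Cfsg.Agent.A6U
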