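import Mathlib
import Cfsg.Agent.A6U.H4_Cases12

/-!
# S3341: the three cases `e = 1, 2, 4` for the shape of the non-exceptional coefficient vector

Index-generic: `ι` is the set of irreducible characters, `triv` the trivial one, `deg` the degrees,
`c` the integer vector of `Helper2.M11.data_main3`, `x₀` (and `x₁`) exceptional characters.
-/

set_option autoImplicit false

namespace Cfsg.Agent.A6U

open Cfsg.Agent.Helper2.BrTI

variable {ι : Type*} [Fintype ι] [DecidableEq ι]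

/-! ### the shift `m` -/

theorem h2_m_one (εz m : ℤ) (hε : εz = 1 ∨ εz = -1) (h : 1 ≤ 1 + 2 * εz * m - 8 * m ^ 2) :
    m = 0 := by
  rcases hε with rfl | rfl <;> nlinarith [sq_nonneg m, sq_nonneg (m - 1), sq_nonneg (m + 1)]

theorem h2_m_two (εz m : ℤ) (hε : εz = 1 ∨ εz = -1) (h : 1 ≤ 2 + 2 * εz * m - 4 * m ^ 2) :
    m = 0 := by
  rcases hε with rfl | rfl
  · have h1 : -1 < m := by nlinarith
    have h2 : m < 1 := by nlinarith
    omega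
  · have h1 : -1 < m := by nlinarith
    have h2 : m < 1 := by nlinarith
    omega

theorem h2_m_four (εz m : ℤ) (hε : εz = 1 ∨ εz = -1) (h : 1 ≤ 4 + 2 * εz * m - 2 * m ^ 2) :
    m = 0 ∨ m = εz := by
  rcases hε with rfl | rfl
  · have h1 : -1 < m := by nlinarith
    have h2 : m < 2 := by nlinarith
    omega
  · have h1 : -2 < m := by nlinarith
    have h2 : m < 1 := by nlinarith
    omega

/-! ### vectors of small norm containing the trivial character -/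

omit [Fintype ι] in
/-- norm three -/
theorem h2_norm_three (s : Finset ι) (c : ι → ℤ) (h : ∑ i ∈ s, c i ^ 2 = 3) :
    ∃ i₁ ∈ s, ∃ i₂ ∈ s, ∃ i₃ ∈ s, i₁ ≠ i₂ ∧ i₁ ≠ i₃ ∧ i₂ ≠ i₃ ∧ (c i₁ = 1 ∨ c i₁ = -1) ∧
      (c i₂ = 1 ∨ c i₂ = -1) ∧ (c i₃ = 1 ∨ c i₃ = -1) ∧
      ∀ j ∈ s, j ≠ i₁ → j ≠ i₂ → j ≠ i₃ → c j = 0 := by
  have hex : ∃ i₁ ∈ s, c i₁ ≠ 0 := by
    by_contra hne
    push Not at hne
    rw [Finset.sum_eq_zero (fun i hi => by rw [hne i hi]; norm_num)] at h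
    omega
  obtain ⟨i₁, hi₁, hc⟩ := hex
  rw [← Finset.add_sum_erase s _ hi₁] at h
  have hnn : 0 ≤ ∑ i ∈ s.erase i₁, c i ^ 2 := Finset.sum_nonneg (fun i _ => sq_nonneg _)
  have hle : c i₁ ^ 2 ≤ 3 := by linarith
  have h1 : c i₁ = 1 ∨ c i₁ = -1 := by
    have h1 : -2 < c i₁ := by nlinarith
    have h2 : c i₁ < 2 := by nlinarith
    omega
  have h2 : c i₁ ^ 2 = 1 := by rcases h1 with h | h <;> rw [h] <;> norm_num
  have h3 : ∑ i ∈ s.erase i₁, c i ^ 2 = 2 := by linarith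
  obtain ⟨i₂, hi₂, i₃, hi₃, hne, hc₂, hc₃, hrest⟩ := norm_two (s.erase i₁) c h3
  refine ⟨i₁, hi₁, i₂, (Finset.mem_erase.mp hi₂).2, i₃, (Finset.mem_erase.mp hi₃).2,
    (Finset.mem_erase.mp hi₂).1.symm, (Finset.mem_erase.mp hi₃).1.symm, hne, h1, hc₂, hc₃, ?_⟩
  intro j hj hj1 hj2 hj3
  exact hrest j (Finset.mem_erase.mpr ⟨hj1, hj⟩) hj2 hj3

/-- norm two, containing `i₀` with coefficient one -/
theorem h2_shape_two (c : ι → ℤ) (i₀ : ι) (h0 : c i₀ = 1) (h : ∑ i, c i ^ 2 = 2) :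
    ∃ θ, θ ≠ i₀ ∧ ∃ e1 : ℤ, (e1 = 1 ∨ e1 = -1) ∧
      ∀ x, c x = (if x = i₀ then 1 else 0) + e1 * (if x = θ then 1 else 0) := by
  rw [← Finset.add_sum_erase Finset.univ _ (Finset.mem_univ i₀), h0] at h
  have h1 : ∑ i ∈ Finset.univ.erase i₀, c i ^ 2 = 1 := by linarith
  obtain ⟨i₁, hi₁, hc₁, hrest⟩ := norm_one _ c h1
  have hne : i₁ ≠ i₀ := (Finset.mem_erase.mp hi₁).1
  refine ⟨i₁, hne, c i₁, hc₁, ?_⟩
  intro x
  by_cases hx0 : x = i₀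
  · subst hx0
    rw [if_pos rfl, if_neg hne.symm, h0]
    ring
  · by_cases hx1 : x = i₁
    · subst hx1
      rw [if_neg hx0, if_pos rfl]
      ring
    · rw [if_neg hx0, if_neg hx1, hrest x (Finset.mem_erase.mpr ⟨hx0, Finset.mem_univ _⟩) hx1]
      ring

/-- norm four, containing `i₀` with coefficient one -/
theorem h2_shape_four (c : ι → ℤ) (i₀ : ι) (h0 : c i₀ = 1) (h : ∑ i, c i ^ 2 = 4) :
    ∃ θ1 θ2 θ3, θ1 ≠ i₀ ∧ θ2 ≠ i₀ ∧ θ3 ≠ i₀ ∧ θ1 ≠ θ2 ∧ θ1 ≠ θ3 ∧ θ2 ≠ θ3 ∧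
      ∃ e1 e2 e3 : ℤ, (e1 = 1 ∨ e1 = -1) ∧ (e2 = 1 ∨ e2 = -1) ∧ (e3 = 1 ∨ e3 = -1) ∧
      ∀ x, c x = (if x = i₀ then 1 else 0) + e1 * (if x = θ1 then 1 else 0) +
        e2 * (if x = θ2 then 1 else 0) + e3 * (if x = θ3 then 1 else 0) := by
  rw [← Finset.add_sum_erase Finset.univ _ (Finset.mem_univ i₀), h0] at h
  have h1 : ∑ i ∈ Finset.univ.erase i₀, c i ^ 2 = 3 := by linarith
  obtain ⟨i₁, hi₁, i₂, hi₂, i₃, hi₃, h12, h13, h23, hc₁, hc₂, hc₃, hrest⟩ := h2_norm_three _ c h1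
  have hne1 : i₁ ≠ i₀ := (Finset.mem_erase.mp hi₁).1
  have hne2 : i₂ ≠ i₀ := (Finset.mem_erase.mp hi₂).1
  have hne3 : i₃ ≠ i₀ := (Finset.mem_erase.mp hi₃).1
  refine ⟨i₁, i₂, i₃, hne1, hne2, hne3, h12, h13, h23, c i₁, c i₂, c i₃, hc₁, hc₂, hc₃, ?_⟩
  intro x
  by_cases hx0 : x = i₀
  · subst hx0
    rw [if_pos rfl, if_neg hne1.symm, if_neg hne2.symm, if_neg hne3.symm, h0]
    ring
  · by_cases hx1 : x = i₁
    · subst hx1
      rw [if_neg hx0, if_pos rfl, if_neg h12, if_neg h13]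
      ring
    · by_cases hx2 : x = i₂
      · subst hx2
        rw [if_neg hx0, if_neg hx1, if_pos rfl, if_neg h23]
        ring
      · by_cases hx3 : x = i₃
        · subst hx3
          rw [if_neg hx0, if_neg hx1, if_neg hx2, if_pos rfl]
          ring
        · rw [if_neg hx0, if_neg hx1, if_neg hx2, if_neg hx3,
            hrest x (Finset.mem_erase.mpr ⟨hx0, Finset.mem_univ _⟩) hx1 hx2 hx3]
          ring

/-! ### the three cases -/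

/-- `e = 1` (`t = 8`): impossible if every nontrivial irreducible character has degree at least
two. -/
theorem h2_case_one (triv x₀ : ι) (hx₀ : x₀ ≠ triv) (deg : ι → ℕ) (hdt : deg triv = 1)
    (hperf : ∀ χ, χ ≠ triv → 2 ≤ deg χ) (εz m : ℤ) (c : ι → ℤ) (hε : εz = 1 ∨ εz = -1)
    (hc1 : c triv = 1) (hsq : ∑ χ, c χ ^ 2 = 1 + 2 * εz * m - 8 * m ^ 2)
    (hdeg : ∑ χ, c χ * (deg χ : ℤ) = (deg x₀ : ℤ) * (εz - 8 * m)) : False := by
  have hge : 1 ≤ ∑ χ, c χ ^ 2 := by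
    rw [← Finset.add_sum_erase Finset.univ _ (Finset.mem_univ triv), hc1]
    have : 0 ≤ ∑ i ∈ Finset.univ.erase triv, c i ^ 2 := Finset.sum_nonneg (fun i _ => sq_nonneg _)
    linarith
  have hm : m = 0 := h2_m_one εz m hε (by rw [← hsq]; exact hge)
  subst hm
  have hsq1 : ∑ χ, c χ ^ 2 = 1 := by rw [hsq]; ring
  obtain ⟨i₁, -, -, hrest⟩ := norm_one Finset.univ c hsq1
  have hi1 : i₁ = triv := by
    by_contra hne
    have := hrest triv (Finset.mem_univ _) (fun h => hne h.symm)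
    rw [hc1] at this
    exact one_ne_zero this
  subst hi1
  have hsum : ∑ χ, c χ * (deg χ : ℤ) = 1 := by
    rw [← Finset.add_sum_erase Finset.univ _ (Finset.mem_univ i₁), hc1, hdt, Finset.sum_eq_zero]
    · norm_num
    · intro j hj
      rw [hrest j (Finset.mem_univ _) (Finset.mem_erase.mp hj).1, zero_mul]
  rw [hsum] at hdeg
  have h2 := hperf x₀ hx₀
  have h2' : (2 : ℤ) ≤ (deg x₀ : ℤ) := by exact_mod_cast h2
  rcases hε with rfl | rfl <;> nlinarith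

/-- `e = 2` (`t = 4`). -/
theorem h2_case_two (triv x₀ : ι) (deg : ι → ℕ) (hdt : deg triv = 1)
    (εz m : ℤ) (c : ι → ℤ) (hε : εz = 1 ∨ εz = -1)
    (hc1 : c triv = 1) (hc0 : c x₀ = 0) (hsq : ∑ χ, c χ ^ 2 = 2 + 2 * εz * m - 4 * m ^ 2)
    (hdeg : ∑ χ, c χ * (deg χ : ℤ) = (deg x₀ : ℤ) * (εz - 4 * m)) :
    m = 0 ∧ ∃ θ, θ ≠ triv ∧ θ ≠ x₀ ∧ ∃ e1 : ℤ, (e1 = 1 ∨ e1 = -1) ∧
      (∀ χ, c χ = (if χ = triv then 1 else 0) + e1 * (if χ = θ then 1 else 0)) ∧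
      1 + e1 * (deg θ : ℤ) = εz * (deg x₀ : ℤ) := by
  have hge : 1 ≤ ∑ χ, c χ ^ 2 := by
    rw [← Finset.add_sum_erase Finset.univ _ (Finset.mem_univ triv), hc1]
    have : 0 ≤ ∑ i ∈ Finset.univ.erase triv, c i ^ 2 := Finset.sum_nonneg (fun i _ => sq_nonneg _)
    linarith
  have hm : m = 0 := h2_m_two εz m hε (by rw [← hsq]; exact hge)
  subst hm
  refine ⟨rfl, ?_⟩
  have hsq2 : ∑ χ, c χ ^ 2 = 2 := by rw [hsq]; ring
  obtain ⟨θ, hθ, e1, he1, hform⟩ := h2_shape_two c triv hc1 hsq2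
  have hθx : θ ≠ x₀ := by
    intro h
    have := hform x₀
    rw [hc0, ← h, if_neg hθ, if_pos rfl] at this
    rcases he1 with rfl | rfl <;> omega
  refine ⟨θ, hθ, hθx, e1, he1, hform, ?_⟩
  have hsum : ∑ χ, c χ * (deg χ : ℤ) = 1 + e1 * (deg θ : ℤ) := by
    simp_rw [hform, add_mul, mul_assoc, ite_mul, one_mul, zero_mul]
    rw [Finset.sum_add_distrib, ← Finset.mul_sum, Finset.sum_ite_eq' Finset.univ triv,
      Finset.sum_ite_eq' Finset.univ θ]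
    simp [hdt]
  rw [hsum] at hdeg
  rw [hdeg]
  ring

/-- `e = 4` (`t = 2`). -/
theorem h2_case_four (triv x₀ x₁ : ι) (hx₀ : x₀ ≠ triv) (hx₁ : x₁ ≠ triv) (hx01 : x₀ ≠ x₁)
    (deg : ι → ℕ) (hdt : deg triv = 1) (hd01 : deg x₀ = deg x₁)
    (εz m : ℤ) (c : ι → ℤ) (hε : εz = 1 ∨ εz = -1)
    (hc1 : c triv = 1) (hc0 : c x₀ = 0) (hc0' : c x₁ = 0)
    (hsq : ∑ χ, c χ ^ 2 = 4 + 2 * εz * m - 2 * m ^ 2)
    (hdeg : ∑ χ, c χ * (deg χ : ℤ) = (deg x₀ : ℤ) * (εz - 2 * m))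
    (hcong : ∀ χ, c χ ≠ 0 → (9 : ℤ) ∣ (deg χ : ℤ) - c χ)
    (hcongd : (9 : ℤ) ∣ (deg x₀ : ℤ) - εz * 4 - m) (g : ℕ) (hg : ∑ χ, deg χ ^ 2 = g) :
    (m = 0 ∨ m = εz) ∧ ∃ θ1 θ2 θ3, [triv, θ1, θ2, θ3, x₀, x₁].Nodup ∧
      ∃ e1 e2 e3 : ℤ, (e1 = 1 ∨ e1 = -1) ∧ (e2 = 1 ∨ e2 = -1) ∧ (e3 = 1 ∨ e3 = -1) ∧
      (∀ χ, c χ = (if χ = triv then 1 else 0) + e1 * (if χ = θ1 then 1 else 0) +
        e2 * (if χ = θ2 then 1 else 0) + e3 * (if χ = θ3 then 1 else 0)) ∧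
      (9 : ℤ) ∣ (deg θ1 : ℤ) - e1 ∧ (9 : ℤ) ∣ (deg θ2 : ℤ) - e2 ∧ (9 : ℤ) ∣ (deg θ3 : ℤ) - e3 ∧
      1 + e1 * (deg θ1 : ℤ) + e2 * (deg θ2 : ℤ) + e3 * (deg θ3 : ℤ) =
        (εz - 2 * m) * (deg x₀ : ℤ) ∧
      (9 : ℤ) ∣ (deg x₀ : ℤ) - 4 * (εz - 2 * m) ∧
      εz * 2 - 3 * m - 3 * εz * m ^ 2 + 2 * m ^ 3 = 2 * (εz - 2 * m) ∧
      1 + deg θ1 ^ 2 + deg θ2 ^ 2 + deg θ3 ^ 2 + 2 * deg x₀ ^ 2 ≤ g := by
  have hge : 1 ≤ ∑ χ, c χ ^ 2 := by
    rw [← Finset.add_sum_erase Finset.univ _ (Finset.mem_univ triv), hc1]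
    have : 0 ≤ ∑ i ∈ Finset.univ.erase triv, c i ^ 2 := Finset.sum_nonneg (fun i _ => sq_nonneg _)
    linarith
  have hm : m = 0 ∨ m = εz := h2_m_four εz m hε (by rw [← hsq]; exact hge)
  refine ⟨hm, ?_⟩
  have hsq4 : ∑ χ, c χ ^ 2 = 4 := by
    rw [hsq]
    rcases hm with rfl | rfl
    · ring
    · rcases hε with rfl | rfl <;> ring
  obtain ⟨θ1, θ2, θ3, h1t, h2t, h3t, h12, h13, h23, e1, e2, e3, he1, he2, he3, hform⟩ :=
    h2_shape_four c triv hc1 hsq4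
  have hval1 : c θ1 = e1 := by
    rw [hform θ1, if_neg h1t, if_pos rfl, if_neg h12, if_neg h13]; ring
  have hval2 : c θ2 = e2 := by
    rw [hform θ2, if_neg h2t, if_neg h12.symm, if_pos rfl, if_neg h23]; ring
  have hval3 : c θ3 = e3 := by
    rw [hform θ3, if_neg h3t, if_neg h13.symm, if_neg h23.symm, if_pos rfl]; ring
  have hne1 : e1 ≠ 0 := by rcases he1 with rfl | rfl <;> norm_num
  have hne2 : e2 ≠ 0 := by rcases he2 with rfl | rfl <;> norm_num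
  have hne3 : e3 ≠ 0 := by rcases he3 with rfl | rfl <;> norm_num
  have hθ1x0 : θ1 ≠ x₀ := fun h => hne1 (by rw [← hval1, h, hc0])
  have hθ2x0 : θ2 ≠ x₀ := fun h => hne2 (by rw [← hval2, h, hc0])
  have hθ3x0 : θ3 ≠ x₀ := fun h => hne3 (by rw [← hval3, h, hc0])
  have hθ1x1 : θ1 ≠ x₁ := fun h => hne1 (by rw [← hval1, h, hc0'])
  have hθ2x1 : θ2 ≠ x₁ := fun h => hne2 (by rw [← hval2, h, hc0'])
  have hθ3x1 : θ3 ≠ x₁ := fun h => hne3 (by rw [← hval3, h, hc0'])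
  have hnd : [triv, θ1, θ2, θ3, x₀, x₁].Nodup := by
    simp only [List.nodup_cons, List.mem_cons, List.not_mem_nil, or_false, not_or,
      List.nodup_nil, and_true]
    exact ⟨⟨h1t.symm, h2t.symm, h3t.symm, hx₀.symm, hx₁.symm⟩, ⟨h12, h13, hθ1x0, hθ1x1⟩,
      ⟨h23, hθ2x0, hθ2x1⟩, ⟨hθ3x0, hθ3x1⟩, hx01, not_false⟩
  refine ⟨θ1, θ2, θ3, hnd, e1, e2, e3, he1, he2, he3, hform, ?_, ?_, ?_, ?_, ?_, ?_, ?_⟩
  · have := hcong θ1 (by rw [hval1]; exact hne1)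
    rwa [hval1] at this
  · have := hcong θ2 (by rw [hval2]; exact hne2)
    rwa [hval2] at this
  · have := hcong θ3 (by rw [hval3]; exact hne3)
    rwa [hval3] at this
  · have hsum : ∑ χ, c χ * (deg χ : ℤ) =
        1 + e1 * (deg θ1 : ℤ) + e2 * (deg θ2 : ℤ) + e3 * (deg θ3 : ℤ) := by
      simp_rw [hform, add_mul, mul_assoc, ite_mul, one_mul, zero_mul]
      rw [Finset.sum_add_distrib, Finset.sum_add_distrib, Finset.sum_add_distrib,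
        ← Finset.mul_sum, ← Finset.mul_sum, ← Finset.mul_sum,
        Finset.sum_ite_eq' Finset.univ triv, Finset.sum_ite_eq' Finset.univ θ1,
        Finset.sum_ite_eq' Finset.univ θ2, Finset.sum_ite_eq' Finset.univ θ3]
      simp [hdt]
    rw [← hsum, hdeg]
    ring
  · rcases hm with rfl | rfl
    · have : (deg x₀ : ℤ) - 4 * (εz - 2 * 0) = (deg x₀ : ℤ) - εz * 4 - 0 := by ring
      rw [this]
      exact hcongd
    · have : (deg x₀ : ℤ) - 4 * (m - 2 * m) = ((deg x₀ : ℤ) - m * 4 - m) + 9 * m := by ring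
      rw [this]
      exact dvd_add hcongd (dvd_mul_right 9 m)
  · rcases hm with rfl | rfl
    · ring
    · rcases hε with rfl | rfl <;> ring
  · -- the sum of squares
    rw [← hg]
    have hsub : ({triv, θ1, θ2, θ3, x₀, x₁} : Finset ι) ⊆ Finset.univ := Finset.subset_univ _
    have hle := Finset.sum_le_sum_of_subset (f := fun χ => deg χ ^ 2) hsub
    have hcomp : ∑ χ ∈ ({triv, θ1, θ2, θ3, x₀, x₁} : Finset ι), deg χ ^ 2 =
        1 + deg θ1 ^ 2 + deg θ2 ^ 2 + deg θ3 ^ 2 + 2 * deg x₀ ^ 2 := by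
      simp only [List.nodup_cons, List.mem_cons, List.not_mem_nil, or_false, not_or,
        List.nodup_nil, and_true] at hnd
      obtain ⟨⟨a1, a2, a3, a4, a5⟩, ⟨b1, b2, b3, b4⟩, ⟨c1, c2, c3⟩, ⟨d1, d2⟩, f1, -⟩ := hnd
      rw [Finset.sum_insert (by simp [a1, a2, a3, a4, a5]),
        Finset.sum_insert (by simp [b1, b2, b3, b4]),
        Finset.sum_insert (by simp [c1, c2, c3]), Finset.sum_insert (by simp [d1, d2]),
        Finset.sum_insert (by simp [f1]), Finset.sum_singleton, hdt, ← hd01]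
      ring
    rw [hcomp] at hle
    exact hle

/-- a sum over all indices of a function supported on the support of `c` -/
theorem h2_sum_four (c : ι → ℤ) (triv θ1 θ2 θ3 : ι) (h1t : θ1 ≠ triv) (h2t : θ2 ≠ triv)
    (h3t : θ3 ≠ triv) (h12 : θ1 ≠ θ2) (h13 : θ1 ≠ θ3) (h23 : θ2 ≠ θ3) (e1 e2 e3 : ℤ)
    (hform : ∀ χ, c χ = (if χ = triv then 1 else 0) + e1 * (if χ = θ1 then 1 else 0) +
        e2 * (if χ = θ2 then 1 else 0) + e3 * (if χ = θ3 then 1 else 0))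
    {M : Type*} [AddCommMonoid M] (F : ι → M) (hF : ∀ χ, c χ = 0 → F χ = 0) :
    ∑ χ, F χ = F triv + (F θ1 + (F θ2 + F θ3)) := by
  have hsub : ∑ χ ∈ ({triv, θ1, θ2, θ3} : Finset ι), F χ = ∑ χ, F χ := by
    apply Finset.sum_subset (Finset.subset_univ _)
    intro χ _ hχ
    simp only [Finset.mem_insert, Finset.mem_singleton, not_or] at hχ
    apply hF
    rw [hform χ, if_neg hχ.1, if_neg hχ.2.1, if_neg hχ.2.2.1, if_neg hχ.2.2.2]
    ring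
  rw [← hsub, Finset.sum_insert (by simp [h1t.symm, h2t.symm, h3t.symm]),
    Finset.sum_insert (by simp [h12, h13]), Finset.sum_insert (by simp [h23]),
    Finset.sum_singleton]

end Cfsg.Agent.A6U

namespace Cfsg.Agent.A6U

open Cfsg.Agent.Helper6 Cfsg.Agent.Helper2.BrTI
open scoped ComplexConjugate

universe u

variable {G : Type u} [Group G] [Fintype G] {K : Subgroup G}

local notation "NK" => Subgroup.normalizer (K : Set G)

set_option maxHeartbeats 1600000 in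
/-- the case `e = 4`: `nG = nN = 2` -/
theorem h2_case_four_main (D : Data K) [Fintype ↥NK] [Fintype (Cfsg.IrrCharacter ↥NK)] [Fintype (Rel K)]
    [Fintype (Cfsg.IrrCharacter G)] [DecidableEq G] (hK9 : Nat.card K = 9)
    (he : (K.subgroupOf NK).index = 4)
    (hdeg2 : ∀ χ : Cfsg.IrrCharacter G, χ ≠ ⟨fun _ => 1, isIrrCharacter_one⟩ →
      2 ≤ Cfsg.charDegree (χ : G → ℂ))
    (a b : NK) (ha : (a : G) ∈ K) (hb : (b : G) ∈ K) (ha1 : a ≠ 1) (hb1 : b ≠ 1)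
    (hne : ¬ IsConj a b) (hbr : IsConj b b⁻¹)
    (hcG : ∑ x ∈ classFinset (a : G), ∑ y ∈ classFinset (b : G),
      (if x * y = (a : G) then (1 : ℂ) else 0) = 2)
    (hcN : ∑ x ∈ classFinset a, ∑ y ∈ classFinset b,
      (if x * y = a then (1 : ℂ) else 0) = 2) : Nat.card G = 360 := by
  classical
  have ht := h4_card_rel D hK9
  rw [he] at ht
  have ht2 : Nat.card (Rel K) = 2 := by omega
  obtain ⟨εz, m, c, hεz, hεC, hexc, hc0, hnon, hc1, hne1, hsq, hdeg, hcongd⟩ :=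
    Cfsg.Agent.Helper2.M11.data_main3 D 4 he (by omega) (by omega)
  rw [ht2] at hsq hdeg
  obtain ⟨η₀, η₁, hη01⟩ : ∃ η₀ η₁ : Rel K, η₀ ≠ η₁ := by
    have h1 : 1 < Nat.card (Rel K) := by omega
    have : Nontrivial (Rel K) := (Finite.one_lt_card_iff_nontrivial).mp h1
    exact exists_pair_ne _
  set i₀ : Cfsg.IrrCharacter G := ⟨fun _ => 1, isIrrCharacter_one⟩ with hi₀
  have hdeg0 : Cfsg.charDegree (i₀ : G → ℂ) = 1 := h4_charDegree_one (G := G)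
  have hd01 : Cfsg.charDegree (D.f η₀ : G → ℂ) = Cfsg.charDegree (D.f η₁ : G → ℂ) := by
    have h := D.deg_eq η₀ η₁
    rw [← charDegree_cast_of_isCharacter (IsIrrCharacter.isCharacter (D.f η₀).2),
      ← charDegree_cast_of_isCharacter (IsIrrCharacter.isCharacter (D.f η₁).2)] at h
    exact_mod_cast h
  -- the class equation
  have hcls := h4_class_eq D m c hexc hc0 (fun χ h => (hnon χ h).1) η₀ a b ha hb ha1 hb1 hne hbr
    2 2 hcG hcN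
  -- the shape of `c`
  have hcong : ∀ χ : Cfsg.IrrCharacter G, c χ ≠ 0 →
      (9 : ℤ) ∣ (Cfsg.charDegree (χ : G → ℂ) : ℤ) - c χ := by
    intro χ hχ
    have hχe : ∀ η : Rel K, D.f η ≠ χ := fun η h => hχ (by rw [← h, hc0])
    have h := (hnon χ hχe).2
    rw [hK9] at h
    exact_mod_cast h
  have hcongd' : (9 : ℤ) ∣ (Cfsg.charDegree (D.f η₀ : G → ℂ) : ℤ) - εz * 4 - m := by
    have h := hcongd η₀
    rw [hK9] at h
    exact_mod_cast h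
  obtain ⟨hm, θ1, θ2, θ3, hnd, e1, e2, e3, he1, he2, he3, hform, h91, h92, h93, hdsum, h9d, hmid,
      hsqle⟩ :=
    h2_case_four i₀ (D.f η₀) (D.f η₁) (hne1 η₀) (hne1 η₁) (fun h => hη01 (D.hf h))
      (fun χ => Cfsg.charDegree (χ : G → ℂ)) hdeg0 hd01 εz m c hεz hc1 (hc0 η₀) (hc0 η₁)
      (by rw [hsq]; push_cast; ring) (by rw [hdeg η₀]; push_cast; ring) hcong hcongd'
      (Nat.card G) sum_sq_charDegree
  simp only [List.nodup_cons, List.mem_cons, List.not_mem_nil, or_false, not_or,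
    List.nodup_nil, and_true] at hnd
  obtain ⟨⟨a1, a2, a3, -, -⟩, ⟨b1, b2, -, -⟩, ⟨c1, -, -⟩, -⟩ := hnd
  -- the sign
  have hep : εz - 2 * m = 1 ∨ εz - 2 * m = -1 := by
    rcases hm with rfl | rfl
    · simpa using hεz
    · rcases hεz with rfl | rfl
      · right; norm_num
      · left; norm_num
  -- the cubic sum
  have hcube : ∀ e : ℤ, (e = 1 ∨ e = -1) → ((e : ℤ) : ℂ) ^ 3 = (e : ℂ) := by
    intro e h
    rcases h with rfl | rfl <;> norm_num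
  have hval1 : c θ1 = e1 := by
    rw [hform θ1, if_neg (Ne.symm a1), if_pos rfl, if_neg b1, if_neg b2]; ring
  have hval2 : c θ2 = e2 := by
    rw [hform θ2, if_neg (Ne.symm a2), if_neg (Ne.symm b1), if_pos rfl, if_neg c1]; ring
  have hval3 : c θ3 = e3 := by
    rw [hform θ3, if_neg (Ne.symm a3), if_neg (Ne.symm b2), if_neg (Ne.symm c1), if_pos rfl]; ring
  have hsumC : ∑ χ : Cfsg.IrrCharacter G, ((c χ : ℤ) : ℂ) ^ 3 / (χ : G → ℂ) 1 =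
      1 + ((e1 : ℂ) / (Cfsg.charDegree (θ1 : G → ℂ) : ℂ) +
        ((e2 : ℂ) / (Cfsg.charDegree (θ2 : G → ℂ) : ℂ) +
          (e3 : ℂ) / (Cfsg.charDegree (θ3 : G → ℂ) : ℂ))) := by
    rw [h2_sum_four c i₀ θ1 θ2 θ3 (Ne.symm a1) (Ne.symm a2) (Ne.symm a3) b1 b2 c1 e1 e2 e3 hform
      (fun χ : Cfsg.IrrCharacter G => ((c χ : ℤ) : ℂ) ^ 3 / (χ : G → ℂ) 1)
      (fun χ h => by rw [h]; simp)]
    rw [hc1, hval1, hval2, hval3, hcube e1 he1, hcube e2 he2, hcube e3 he3,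
      charDegree_cast_of_isCharacter (IsIrrCharacter.isCharacter θ1.2),
      charDegree_cast_of_isCharacter (IsIrrCharacter.isCharacter θ2.2),
      charDegree_cast_of_isCharacter (IsIrrCharacter.isCharacter θ3.2)]
    congr 1
    simp [hi₀]
  rw [hsumC, hK9, he, ht2, ← charDegree_cast_of_isCharacter (IsIrrCharacter.isCharacter (D.f η₀).2),
    ← hεC] at hcls
  have hmidC : (εz : ℂ) * ((9 : ℕ) * 2 - ((4 : ℕ) : ℂ) ^ 2) + (m : ℂ) * ((9 : ℕ) - 3 * ((4 : ℕ) : ℂ))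
      - 3 * (εz : ℂ) * (m : ℂ) ^ 2 + ((2 : ℕ) : ℂ) * (m : ℂ) ^ 3 = 2 * ((εz - 2 * m : ℤ) : ℂ) := by
    have h : ((εz * 2 - 3 * m - 3 * εz * m ^ 2 + 2 * m ^ 3 : ℤ) : ℂ) =
        ((2 * (εz - 2 * m) : ℤ) : ℂ) := by rw [hmid]
    push_cast at h ⊢
    linear_combination h
  rw [hmidC] at hcls
  have hf1 := hdeg2 θ1 (Ne.symm a1)
  have hf2 := hdeg2 θ2 (Ne.symm a2)
  have hf3 := hdeg2 θ3 (Ne.symm a3)
  have hd2 := hdeg2 (D.f η₀) (hne1 η₀)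
  have hgpos : 0 < Nat.card G := Nat.card_pos
  apply arith4 (Nat.card G) (Cfsg.charDegree (θ1 : G → ℂ)) (Cfsg.charDegree (θ2 : G → ℂ))
    (Cfsg.charDegree (θ3 : G → ℂ)) (Cfsg.charDegree (D.f η₀ : G → ℂ)) e1 e2 e3 (εz - 2 * m)
    he1 he2 he3 hep hf1 hf2 hf3 hd2 h91 h92 h93 h9d hdsum ?_ hsqle
  have hgC : ((Nat.card G : ℕ) : ℂ) ≠ 0 := by exact_mod_cast hgpos.ne'
  have h1 : (((Nat.card G : ℚ) * (1 + (e1 : ℚ) / (Cfsg.charDegree (θ1 : G → ℂ) : ℚ) +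
      (e2 : ℚ) / (Cfsg.charDegree (θ2 : G → ℂ) : ℚ) +
      (e3 : ℚ) / (Cfsg.charDegree (θ3 : G → ℂ) : ℚ) +
      2 * ((εz - 2 * m : ℤ) : ℚ) / (Cfsg.charDegree (D.f η₀ : G → ℂ) : ℚ)) : ℚ) : ℂ) =
      ((162 : ℚ) : ℂ) := by
    push_cast
    push_cast at hcls
    have h2 : (2 : ℂ) * 9 ^ 2 = (Nat.card G : ℂ) * (2 * 9 ^ 2 / (Nat.card G : ℂ)) := by
      field_simp
    rw [hcls] at h2
    linear_combination -h2
  exact_mod_cast h1

end Cfsg.Agent.A6U
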