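import Mathlib
import Cfsg.Agent.Helper2.BrTIB
import Cfsg.Agent.Helper4.Bsw2.ClassMult

/-!
# Abelian T.I. subgroups with Frobenius normalizer: further sum rules in the normalizer

For `K` abelian with `C_G(k) ≤ K` for `k ∈ K#`, `N = N_G(K)`, `e = |N : K|` and the relevant
characters `η ∈ Rel K` of `N`:

* `h2_sum_rel_offdiag`: `∑_η η(a) conj η(b) = -e` for `a, b ∈ K` not conjugate in `N`;
* `h2_sum_rel_triple`: `∑_η η(a) η(b) conj η(c) = e (|N| · #{(x,y) ∈ a^N × b^N | xy = c} /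
  (|a^N| |b^N|) - e)` for `a, b, c ∈ K`.
-/

set_option autoImplicit false
set_option linter.style.haveILetI false

namespace Cfsg.Agent.A6U

open Cfsg.Agent.Helper6 Cfsg.Agent.Helper2.BrTI
open scoped ComplexConjugate

universe u

variable {G : Type u} [Group G] (K : Subgroup G)

local notation "NK" => Subgroup.normalizer (K : Set G)

variable [Fintype G]

/-- the sum of the squares of the degrees of the nonrelevant characters -/
theorem h2_nonrel_sq [Fintype ↥NK] [Fintype (Cfsg.IrrCharacter ↥NK)]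
    [DecidablePred fun χ : Cfsg.IrrCharacter NK => ∀ n ∈ K.subgroupOf NK, (χ : NK → ℂ) n =
      (χ : NK → ℂ) 1] :
    ∑ χ ∈ Finset.univ.filter (fun χ : Cfsg.IrrCharacter NK =>
      ∀ n ∈ K.subgroupOf NK, (χ : NK → ℂ) n = (χ : NK → ℂ) 1),
      ((χ : NK → ℂ) 1) ^ 2 = ((K.subgroupOf NK).index : ℂ) := by
  haveI : (K.subgroupOf NK).Normal := Subgroup.normal_in_normalizer
  have h := sum_sq_degrees_of_le_ker (G := NK) (K.subgroupOf NK)
  have h2 := congrArg (fun n : ℕ => (n : ℂ)) h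
  simp only [Nat.cast_sum, Nat.cast_pow] at h2
  rw [← h2]
  apply Finset.sum_congr rfl
  intro χ _
  rw [charDegree_cast_of_isCharacter (IsIrrCharacter.isCharacter χ.2)]

omit [Fintype G] in
theorem h2_deg_conj (χ : Cfsg.IrrCharacter NK) : conj ((χ : NK → ℂ) 1) = (χ : NK → ℂ) 1 := by
  obtain ⟨n, hn⟩ := IsCharacter.apply_one (IsIrrCharacter.isCharacter χ.2)
  rw [hn, Complex.conj_natCast]

/-- off-diagonal column sums over the relevant characters -/
theorem h2_sum_rel_offdiag [Fintype ↥NK] [Fintype (Cfsg.IrrCharacter ↥NK)] [Fintype (Rel K)]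
    (a b : NK) (haK : (a : G) ∈ K) (hbK : (b : G) ∈ K) (hnc : ¬ IsConj a b) :
    ∑ η : Rel K, (η.1 : NK → ℂ) a * conj ((η.1 : NK → ℂ) b) =
      -((K.subgroupOf NK).index : ℂ) := by
  classical
  have h1 := column_orthogonality_aux (G := NK) a b
  rw [if_neg hnc, sum_split K] at h1
  have h1b : ∑ χ ∈ Finset.univ.filter (fun χ : Cfsg.IrrCharacter NK =>
      ∀ n ∈ K.subgroupOf NK, (χ : NK → ℂ) n = (χ : NK → ℂ) 1),
      (χ : NK → ℂ) a * conj ((χ : NK → ℂ) b) = ((K.subgroupOf NK).index : ℂ) := by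
    rw [← h2_nonrel_sq K]
    apply Finset.sum_congr rfl
    intro χ hχ
    rw [Finset.mem_filter] at hχ
    rw [hχ.2 a (Subgroup.mem_subgroupOf.mpr haK), hχ.2 b (Subgroup.mem_subgroupOf.mpr hbK),
      h2_deg_conj, sq]
  rw [h1b] at h1
  linear_combination h1

/-- triple sums over the relevant characters, via the class multiplication constants of the
normalizer -/
theorem h2_sum_rel_triple [Fintype ↥NK] [Fintype (Cfsg.IrrCharacter ↥NK)] [Fintype (Rel K)]
    [DecidableEq ↥NK]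
    (hC : ∀ k ∈ K, k ≠ 1 → Subgroup.centralizer ({k} : Set G) ≤ K)
    (hab : ∀ a ∈ K, ∀ b ∈ K, a * b = b * a)
    (a b c : NK) (haK : (a : G) ∈ K) (hbK : (b : G) ∈ K) (hcK : (c : G) ∈ K) :
    ∑ x ∈ classFinset a, ∑ y ∈ classFinset b, (if x * y = c then (1 : ℂ) else 0) =
      ((classFinset a).card : ℂ) * ((classFinset b).card : ℂ) / (Nat.card NK : ℂ) *
        (((K.subgroupOf NK).index : ℂ) + ((K.subgroupOf NK).index : ℂ)⁻¹ *
          ∑ η : Rel K, (η.1 : NK → ℂ) a * (η.1 : NK → ℂ) b * conj ((η.1 : NK → ℂ) c)) := by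
  classical
  rw [Cfsg.Agent.Helper4.Bsw2.class_mult_count, sum_split K]
  congr 1
  have hreldeg : ∀ η : Rel K, (η.1 : NK → ℂ) 1 = ((K.subgroupOf NK).index : ℂ) := fun η =>
    (rel_data K hC hab _ η.1.2 η.2).2
  have h1 : ∑ χ ∈ Finset.univ.filter (fun χ : Cfsg.IrrCharacter NK =>
      ∀ n ∈ K.subgroupOf NK, (χ : NK → ℂ) n = (χ : NK → ℂ) 1),
      (χ : NK → ℂ) a * (χ : NK → ℂ) b * conj ((χ : NK → ℂ) c) / (χ : NK → ℂ) 1 =
        ((K.subgroupOf NK).index : ℂ) := by
    rw [← h2_nonrel_sq K]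
    apply Finset.sum_congr rfl
    intro χ hχ
    rw [Finset.mem_filter] at hχ
    rw [hχ.2 a (Subgroup.mem_subgroupOf.mpr haK), hχ.2 b (Subgroup.mem_subgroupOf.mpr hbK),
      hχ.2 c (Subgroup.mem_subgroupOf.mpr hcK), h2_deg_conj]
    have hne : (χ : NK → ℂ) 1 ≠ 0 := IsIrrCharacter.apply_one_ne_zero χ.2
    field_simp
  rw [h1, add_comm]
  congr 1
  rw [Finset.mul_sum]
  apply Finset.sum_congr rfl
  intro η _
  rw [hreldeg η]
  ring

end Cfsg.Agent.A6U
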