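import Mathlib
import Cfsg.Agent.A6U.H4_Cases12

/-!
# S3341: the case `e = 4`
-/

set_option autoImplicit false
set_option linter.style.haveILetI false

namespace Cfsg.Agent.A6U

open Cfsg.Agent.Helper6 Cfsg.Agent.Helper2.BrTI
open scoped ComplexConjugate

universe u

/-- norm three -/
theorem h4_norm_three {ι : Type*} [DecidableEq ι] (s : Finset ι) (c : ι → ℤ)
    (h : ∑ i ∈ s, c i ^ 2 = 3) :
    ∃ i₁ ∈ s, ∃ i₂ ∈ s, ∃ i₃ ∈ s, i₁ ≠ i₂ ∧ i₁ ≠ i₃ ∧ i₂ ≠ i₃ ∧ (c i₁ = 1 ∨ c i₁ = -1) ∧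
      (c i₂ = 1 ∨ c i₂ = -1) ∧ (c i₃ = 1 ∨ c i₃ = -1) ∧
      ∀ j ∈ s, j ≠ i₁ → j ≠ i₂ → j ≠ i₃ → c j = 0 := by
  have hex : ∃ i₁ ∈ s, c i₁ ≠ 0 := by
    by_contra hne
    push Not at hne
    rw [Finset.sum_eq_zero (fun i hi => by rw [hne i hi]; norm_num)] at h
    omega
  obtain ⟨i₁, hi₁, hc⟩ := hex
  rw [← Finset.add_sum_erase s _ hi₁] at h
  have hnn : 0 ≤ ∑ i ∈ s.erase i₁, c i ^ 2 := Finset.sum_nonneg (fun i _ => sq_nonneg _)
  have h1 : c i₁ = 1 ∨ c i₁ = -1 := by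
    have h2 : c i₁ ^ 2 ≤ 3 := by linarith
    have h3 : -1 ≤ c i₁ := by nlinarith
    have h4 : c i₁ ≤ 1 := by nlinarith
    omega
  have h2 : c i₁ ^ 2 = 1 := by rcases h1 with h | h <;> rw [h] <;> norm_num
  have h3 : ∑ i ∈ s.erase i₁, c i ^ 2 = 2 := by linarith
  obtain ⟨i₂, hi₂, i₃, hi₃, hne, hc₂, hc₃, hrest⟩ := norm_two (s.erase i₁) c h3
  refine ⟨i₁, hi₁, i₂, (Finset.mem_erase.mp hi₂).2, i₃, (Finset.mem_erase.mp hi₃).2,
    (Finset.mem_erase.mp hi₂).1.symm, (Finset.mem_erase.mp hi₃).1.symm, hne, h1, hc₂, hc₃, ?_⟩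
  intro j hj hj1 hj2 hj3
  exact hrest j (Finset.mem_erase.mpr ⟨hj1, hj⟩) hj2 hj3

variable {G : Type u} [Group G] [Fintype G] {K : Subgroup G}

local notation "NK" => Subgroup.normalizer (K : Set G)

/-- the sum of the squares of the degrees, in `ℕ` -/
theorem h4_sum_sq_degrees_nat [Fintype (Cfsg.IrrCharacter G)] :
    ∑ χ : Cfsg.IrrCharacter G, Cfsg.charDegree (χ : G → ℂ) ^ 2 = Nat.card G := by
  have h := sum_sq_degrees (G := G)
  have h2 : ((∑ χ : Cfsg.IrrCharacter G, Cfsg.charDegree (χ : G → ℂ) ^ 2 : ℕ) : ℂ) =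
      (Nat.card G : ℂ) := by
    rw [← h]
    push_cast
    apply Finset.sum_congr rfl
    intro χ _
    rw [charDegree_cast_of_isCharacter (IsIrrCharacter.isCharacter χ.2)]
  exact_mod_cast h2

set_option maxHeartbeats 1600000 in
/-- the case `e = 4` -/
theorem case_four (D : Data K) [Fintype ↥NK] [Fintype (Cfsg.IrrCharacter ↥NK)] [Fintype (Rel K)]
    [Fintype (Cfsg.IrrCharacter G)] [DecidableEq G] (hK9 : Nat.card K = 9)
    (he : (K.subgroupOf NK).index = 4)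
    (hdeg2 : ∀ χ : Cfsg.IrrCharacter G, χ ≠ ⟨fun _ => 1, isIrrCharacter_one⟩ →
      2 ≤ Cfsg.charDegree (χ : G → ℂ))
    (a b : NK) (ha : (a : G) ∈ K) (hb : (b : G) ∈ K) (ha1 : a ≠ 1) (hb1 : b ≠ 1)
    (hne : ¬ IsConj a b) (hbr : IsConj b b⁻¹)
    (hcG : ∑ x ∈ classFinset (a : G), ∑ y ∈ classFinset (b : G),
      (if x * y = (a : G) then (1 : ℂ) else 0) = 2)
    (hcN : ∑ x ∈ classFinset a, ∑ y ∈ classFinset b,
      (if x * y = a then (1 : ℂ) else 0) = 2) : Nat.card G = 360 := by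
  classical
  have ht := h4_card_rel D hK9
  rw [he] at ht
  have ht2 : Nat.card (Rel K) = 2 := by omega
  obtain ⟨εz, m, c, hεz, hεC, hexc, hc0, hnon, hc1, hne1, hsq, hdeg, hcong⟩ :=
    Cfsg.Agent.Helper2.M11.data_main3 D 4 he (by omega) (by omega)
  rw [ht2] at hsq hdeg
  have hge : (1 : ℤ) ≤ ∑ χ, c χ ^ 2 := by
    have h1 : c ⟨fun _ => 1, isIrrCharacter_one⟩ ^ 2 ≤ ∑ χ, c χ ^ 2 :=
      Finset.single_le_sum (f := fun χ => c χ ^ 2) (fun χ _ => sq_nonneg (c χ))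
        (Finset.mem_univ _)
    rw [hc1] at h1
    linarith
  have hm : m = 0 ∨ m = εz := by
    rw [hsq] at hge
    push_cast at hge
    rcases hεz with h | h <;> rw [h] at hge ⊢
    · have h1 : -1 < m := by nlinarith
      have h2 : m < 2 := by nlinarith
      omega
    · have h1 : -2 < m := by nlinarith
      have h2 : m < 1 := by nlinarith
      omega
  have hsq4 : ∑ χ, c χ ^ 2 = 4 := by
    rw [hsq]
    rcases hm with h | h <;> rw [h] <;> rcases hεz with h' | h' <;> rw [h'] <;> norm_num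
  -- two relevant characters
  obtain ⟨η₁, η₂, hη12⟩ : ∃ η₁ η₂ : Rel K, η₁ ≠ η₂ := by
    have h1 : 1 < Nat.card (Rel K) := by omega
    haveI : Nontrivial (Rel K) := (Finite.one_lt_card_iff_nontrivial).mp h1
    exact exists_pair_ne _
  -- the class equation
  have hcls := h4_class_eq D m c hexc hc0 (fun χ h => (hnon χ h).1) η₁ a b ha hb ha1 hb1 hne hbr
    2 2 hcG hcN
  -- the support of c
  set i₀ : Cfsg.IrrCharacter G := ⟨fun _ => 1, isIrrCharacter_one⟩ with hi₀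
  have hsq3 : ∑ χ ∈ Finset.univ.erase i₀, c χ ^ 2 = 3 := by
    rw [← Finset.add_sum_erase Finset.univ _ (Finset.mem_univ i₀), hc1] at hsq4
    linarith
  obtain ⟨i₁, hi₁, i₂, hi₂, i₃, hi₃, h12, h13, h23, hc₁, hc₂, hc₃, hrest⟩ :=
    h4_norm_three _ c hsq3
  have hi₁0 : i₁ ≠ i₀ := (Finset.mem_erase.mp hi₁).1
  have hi₂0 : i₂ ≠ i₀ := (Finset.mem_erase.mp hi₂).1
  have hi₃0 : i₃ ≠ i₀ := (Finset.mem_erase.mp hi₃).1
  have hsupp : ∀ j, j ≠ i₀ → j ≠ i₁ → j ≠ i₂ → j ≠ i₃ → c j = 0 := fun j h0 h1 h2 h3 =>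
    hrest j (Finset.mem_erase.mpr ⟨h0, Finset.mem_univ _⟩) h1 h2 h3
  have hi₂' : i₂ ∈ (Finset.univ.erase i₀).erase i₁ := Finset.mem_erase.mpr ⟨h12.symm, hi₂⟩
  have hi₃' : i₃ ∈ ((Finset.univ.erase i₀).erase i₁).erase i₂ :=
    Finset.mem_erase.mpr ⟨h23.symm, Finset.mem_erase.mpr ⟨h13.symm, hi₃⟩⟩
  have hzero : ∀ j ∈ (((Finset.univ.erase i₀).erase i₁).erase i₂).erase i₃, c j = 0 := by
    intro j hj
    have h3 := Finset.mem_erase.mp hj
    have h2 := Finset.mem_erase.mp h3.2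
    have h1 := Finset.mem_erase.mp h2.2
    have h0 := Finset.mem_erase.mp h1.2
    exact hsupp j h0.1 h1.1 h2.1 h3.1
  have hsumZ : ∀ w : Cfsg.IrrCharacter G → ℤ,
      ∑ χ, c χ * w χ = w i₀ + c i₁ * w i₁ + c i₂ * w i₂ + c i₃ * w i₃ := by
    intro w
    rw [← Finset.add_sum_erase Finset.univ _ (Finset.mem_univ i₀), hc1, one_mul,
      ← Finset.add_sum_erase _ _ hi₁, ← Finset.add_sum_erase _ _ hi₂',
      ← Finset.add_sum_erase _ _ hi₃', Finset.sum_eq_zero, add_zero]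
    · ring
    · intro j hj
      rw [hzero j hj, zero_mul]
  have hcube : ∀ i : Cfsg.IrrCharacter G, (c i = 1 ∨ c i = -1) →
      ((c i : ℤ) : ℂ) ^ 3 / (i : G → ℂ) 1 =
        ((c i : ℤ) : ℂ) / (Cfsg.charDegree (i : G → ℂ) : ℂ) := by
    intro i hi
    rw [charDegree_cast_of_isCharacter (IsIrrCharacter.isCharacter i.2)]
    congr 1
    rcases hi with h | h <;> rw [h] <;> norm_num
  have hsumC : ∑ χ : Cfsg.IrrCharacter G, ((c χ : ℤ) : ℂ) ^ 3 / (χ : G → ℂ) 1 =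
      1 + ((c i₁ : ℤ) : ℂ) / (Cfsg.charDegree (i₁ : G → ℂ) : ℂ) +
        ((c i₂ : ℤ) : ℂ) / (Cfsg.charDegree (i₂ : G → ℂ) : ℂ) +
        ((c i₃ : ℤ) : ℂ) / (Cfsg.charDegree (i₃ : G → ℂ) : ℂ) := by
    rw [← Finset.add_sum_erase Finset.univ _ (Finset.mem_univ i₀), hc1,
      ← Finset.add_sum_erase _ _ hi₁, ← Finset.add_sum_erase _ _ hi₂',
      ← Finset.add_sum_erase _ _ hi₃', Finset.sum_eq_zero, add_zero, hcube i₁ hc₁, hcube i₂ hc₂,
      hcube i₃ hc₃]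
    · have : ((1 : ℤ) : ℂ) ^ 3 / (i₀ : G → ℂ) 1 = 1 := by simp [hi₀]
      rw [this]
      ring
    · intro j hj
      rw [hzero j hj]
      simp
  -- nonexceptional
  have hnonexc : ∀ i : Cfsg.IrrCharacter G, (c i = 1 ∨ c i = -1) → ∀ η : Rel K, D.f η ≠ i := by
    intro i hi η h
    rw [← h, hc0 η] at hi
    omega
  have hdeg0 : (Cfsg.charDegree (i₀ : G → ℂ) : ℤ) = 1 := by
    have := h4_charDegree_one (G := G)
    exact_mod_cast this
  -- degrees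
  set f₁ := Cfsg.charDegree (i₁ : G → ℂ) with hf₁
  set f₂ := Cfsg.charDegree (i₂ : G → ℂ) with hf₂
  set f₃ := Cfsg.charDegree (i₃ : G → ℂ) with hf₃
  set d := Cfsg.charDegree (D.f η₁ : G → ℂ) with hd
  have hdd : Cfsg.charDegree (D.f η₂ : G → ℂ) = d := by
    have h1 := D.deg_eq η₂ η₁
    rw [← charDegree_cast_of_isCharacter (IsIrrCharacter.isCharacter (D.f η₂).2),
      ← charDegree_cast_of_isCharacter (IsIrrCharacter.isCharacter (D.f η₁).2)] at h1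
    exact_mod_cast h1
  have hdg := hdeg η₁
  rw [hsumZ, hdeg0, ← hf₁, ← hf₂, ← hf₃, ← hd] at hdg
  have hcg := hcong η₁
  rw [hK9, ← hd] at hcg
  have hc9 : ∀ i : Cfsg.IrrCharacter G, (c i = 1 ∨ c i = -1) →
      (9 : ℤ) ∣ (Cfsg.charDegree (i : G → ℂ) : ℤ) - c i := by
    intro i hi
    have := (hnon i (hnonexc i hi)).2
    rw [hK9] at this
    exact_mod_cast this
  -- the sum of squares
  have hsqN : 1 + f₁ ^ 2 + f₂ ^ 2 + f₃ ^ 2 + 2 * d ^ 2 ≤ Nat.card G := by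
    rw [← h4_sum_sq_degrees_nat (G := G)]
    have hF1 : D.f η₁ ≠ i₀ := hne1 η₁
    have hF2 : D.f η₂ ≠ i₀ := hne1 η₂
    have hF12 : D.f η₁ ≠ D.f η₂ := fun h => hη12 (D.hf h)
    have hsub : ({i₀, i₁, i₂, i₃, D.f η₁, D.f η₂} : Finset (Cfsg.IrrCharacter G)) ⊆
        Finset.univ := Finset.subset_univ _
    have hle := Finset.sum_le_sum_of_subset (f := fun χ : Cfsg.IrrCharacter G =>
      Cfsg.charDegree (χ : G → ℂ) ^ 2) hsub
    have hcalc : ∑ χ ∈ ({i₀, i₁, i₂, i₃, D.f η₁, D.f η₂} : Finset (Cfsg.IrrCharacter G)),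
        Cfsg.charDegree (χ : G → ℂ) ^ 2 = 1 + f₁ ^ 2 + f₂ ^ 2 + f₃ ^ 2 + 2 * d ^ 2 := by
      rw [Finset.sum_insert, Finset.sum_insert, Finset.sum_insert, Finset.sum_insert,
        Finset.sum_insert, Finset.sum_singleton, hdd, ← hd, ← hf₁, ← hf₂, ← hf₃]
      · have : Cfsg.charDegree (i₀ : G → ℂ) = 1 := h4_charDegree_one
        rw [this]
        ring
      · simp only [Finset.mem_singleton]
        exact hF12
      · simp only [Finset.mem_insert, Finset.mem_singleton, not_or]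
        exact ⟨fun h => hnonexc i₃ hc₃ η₁ h.symm, fun h => hnonexc i₃ hc₃ η₂ h.symm⟩
      · simp only [Finset.mem_insert, Finset.mem_singleton, not_or]
        exact ⟨h23, fun h => hnonexc i₂ hc₂ η₁ h.symm, fun h => hnonexc i₂ hc₂ η₂ h.symm⟩
      · simp only [Finset.mem_insert, Finset.mem_singleton, not_or]
        exact ⟨h12, h13, fun h => hnonexc i₁ hc₁ η₁ h.symm, fun h => hnonexc i₁ hc₁ η₂ h.symm⟩
      · simp only [Finset.mem_insert, Finset.mem_singleton, not_or]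
        exact ⟨hi₁0.symm, hi₂0.symm, hi₃0.symm, hF1.symm, hF2.symm⟩
    rw [← hcalc]
    exact hle
  -- the sign ep
  set ep : ℤ := εz - 2 * m with hep
  have hep1 : ep = 1 ∨ ep = -1 := by
    rcases hm with h | h <;> rcases hεz with h' | h' <;> rw [hep, h] <;> rw [h'] <;> norm_num
  have hf1 := hdeg2 i₁ hi₁0
  have hf2 := hdeg2 i₂ hi₂0
  have hf3 := hdeg2 i₃ hi₃0
  have hd2 := hdeg2 (D.f η₁) (hne1 η₁)
  apply arith4 (Nat.card G) f₁ f₂ f₃ d (c i₁) (c i₂) (c i₃) ep hc₁ hc₂ hc₃ hep1 hf1 hf2 hf3 hd2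
    (hc9 i₁ hc₁) (hc9 i₂ hc₂) (hc9 i₃ hc₃)
  · -- 9 ∣ d - 4 ep
    rcases hm with h | h
    · rw [h] at hcg
      rw [hep, h]
      have : (d : ℤ) - 4 * (εz - 2 * 0) = (d : ℤ) - εz * ((4 : ℕ) : ℤ) - 0 := by push_cast; ring
      rw [this]
      exact hcg
    · rw [h] at hcg
      rw [hep, h]
      have : (d : ℤ) - 4 * (εz - 2 * εz) = ((d : ℤ) - εz * ((4 : ℕ) : ℤ) - εz) + 9 * εz := by
        push_cast; ring
      rw [this]
      exact dvd_add hcg (dvd_mul_right 9 εz)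
  · -- degree equation
    rw [hdg, hep]
    push_cast
    ring
  · -- class equation
    have hGC : (Nat.card G : ℂ) ≠ 0 := by
      have : 0 < Nat.card G := Nat.card_pos
      exact_mod_cast this.ne'
    have hdC : ((d : ℕ) : ℂ) ≠ 0 := by
      have : 0 < d := by omega
      exact_mod_cast this.ne'
    have hf1C : ((f₁ : ℕ) : ℂ) ≠ 0 := by
      have : 0 < f₁ := by omega
      exact_mod_cast this.ne'
    have hf2C : ((f₂ : ℕ) : ℂ) ≠ 0 := by
      have : 0 < f₂ := by omega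
      exact_mod_cast this.ne'
    have hf3C : ((f₃ : ℕ) : ℂ) ≠ 0 := by
      have : 0 < f₃ := by omega
      exact_mod_cast this.ne'
    rw [hsumC, hK9, he, ht2,
      ← charDegree_cast_of_isCharacter (IsIrrCharacter.isCharacter (D.f η₁).2), ← hd,
      ← hεC] at hcls
    have hnum : (εz : ℂ) * (((9 : ℕ) : ℂ) * 2 - ((4 : ℕ) : ℂ) ^ 2) +
        (m : ℂ) * (((9 : ℕ) : ℂ) - 3 * ((4 : ℕ) : ℂ)) - 3 * (εz : ℂ) * (m : ℂ) ^ 2 +
        ((2 : ℕ) : ℂ) * (m : ℂ) ^ 3 = 2 * (ep : ℂ) := by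
      rcases hm with h | h <;> rcases hεz with h' | h' <;> rw [hep, h] <;> rw [h'] <;>
        push_cast <;> ring
    rw [hnum] at hcls
    have h1 : (((Nat.card G : ℚ) * (1 + (c i₁ : ℚ) / (f₁ : ℚ) + (c i₂ : ℚ) / (f₂ : ℚ) +
        (c i₃ : ℚ) / (f₃ : ℚ) + 2 * (ep : ℚ) / (d : ℚ)) : ℚ) : ℂ) = ((162 : ℚ) : ℂ) := by
      push_cast
      push_cast at hcls
      rw [← hcls]
      field_simp
      ring
    exact_mod_cast h1
  · exact hsqN

end Cfsg.Agent.A6U
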