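import Mathlib

/-!
# A6U / R1: Higman's `(3,3,3)` lemma

In a finite group in which the centralizer of every element of order `3` is abelian of exponent `3`:
if `x`, `y`, `x * y` all have order dividing `3` (and `x` has order `3`), then `x` and `y` commute or
are conjugate.
-/

set_option autoImplicit false

namespace Cfsg.Agent.A6U

variable {G : Type*} [Group G]

theorem h6_order_three_of_cube {g : G} (h1 : g ≠ 1) (h3 : g ^ 3 = 1) : orderOf g = 3 := by
  have hd : orderOf g ∣ 3 := orderOf_dvd_of_pow_eq_one h3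
  rcases (Nat.dvd_prime Nat.prime_three).mp hd with h | h
  · exact absurd (orderOf_eq_one_iff.mp h) h1
  · exact h

/-- conjugation by `x` -/
def h6_cj (x g : G) : G := x * g * x⁻¹

theorem h6_cj_mul (x g h : G) : h6_cj x (g * h) = h6_cj x g * h6_cj x h := by
  unfold h6_cj; group

theorem h6_cj_inv (x g : G) : h6_cj x g⁻¹ = (h6_cj x g)⁻¹ := by
  unfold h6_cj; group

theorem h6_cj_pow (x g : G) (n : ℕ) : h6_cj x (g ^ n) = (h6_cj x g) ^ n := by
  unfold h6_cj
  exact conj_pow.symm

theorem h6_cj_fix_iff (x g : G) : h6_cj x g = g ↔ Commute x g := by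
  unfold h6_cj
  constructor
  · intro h
    show x * g = g * x
    calc x * g = x * g * x⁻¹ * x := by group
      _ = g * x := by rw [h]
  · intro h
    have h' : x * g = g * x := h
    calc x * g * x⁻¹ = g * x * x⁻¹ := by rw [h']
      _ = g := by group

/-- in a commutative subgroup on which `x` acts with `x ^ 3 = 1`, an element of order `3` yields a
nontrivial fixed element of order `3` -/
theorem h6_exists_fixed (A : Subgroup G) (hcomm : ∀ g ∈ A, ∀ h ∈ A, g * h = h * g) (x : G)
    (hx3 : x ^ 3 = 1) (hnorm : ∀ g ∈ A, h6_cj x g ∈ A) (c : G) (hc : c ∈ A) (hc1 : c ≠ 1)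
    (hc3 : c ^ 3 = 1) : ∃ d ∈ A, d ≠ 1 ∧ d ^ 3 = 1 ∧ Commute x d := by
  set u0 := c with hu0
  set u1 := h6_cj x c with hu1
  set u2 := h6_cj x u1 with hu2
  have m0 : u0 ∈ A := hc
  have m1 : u1 ∈ A := hnorm _ m0
  have m2 : u2 ∈ A := hnorm _ m1
  have hback : h6_cj x u2 = u0 := by
    simp only [hu2, hu1, hu0, h6_cj]
    have hx3' : x * x * x = 1 := by simpa [pow_succ] using hx3
    have hxi : x⁻¹ * x⁻¹ * x⁻¹ = 1 := by
      have : (x * x * x)⁻¹ = 1 := by rw [hx3', inv_one]
      simpa [mul_inv_rev, mul_assoc] using this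
    calc x * (x * (x * c * x⁻¹) * x⁻¹) * x⁻¹ = (x * x * x) * c * (x⁻¹ * x⁻¹ * x⁻¹) := by group
      _ = c := by rw [hx3', hxi, one_mul, mul_one]
  have c01 : u0 * u1 = u1 * u0 := hcomm _ m0 _ m1
  have c02 : u0 * u2 = u2 * u0 := hcomm _ m0 _ m2
  have c12 : u1 * u2 = u2 * u1 := hcomm _ m1 _ m2
  have p0 : u0 ^ 3 = 1 := hc3
  have p1 : u1 ^ 3 = 1 := by rw [hu1, ← h6_cj_pow, hc3]; unfold h6_cj; group
  have p2 : u2 ^ 3 = 1 := by rw [hu2, ← h6_cj_pow, p1]; unfold h6_cj; group
  by_cases h01 : u1 = u0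
  · -- `c` itself is fixed
    exact ⟨c, hc, hc1, hc3, (h6_cj_fix_iff x c).mp h01⟩
  by_cases hp : u0 * u1 * u2 = 1
  · -- `q = u0 * u1⁻¹` is fixed
    refine ⟨u0 * u1⁻¹, A.mul_mem m0 (A.inv_mem m1), ?_, ?_, ?_⟩
    · intro h
      apply h01
      have : u0 = u1 := by
        calc u0 = u0 * u1⁻¹ * u1 := by group
          _ = u1 := by rw [h, one_mul]
      exact this.symm
    · have hc' : Commute u0 u1⁻¹ := (show Commute u0 u1 from c01).inv_right
      rw [hc'.mul_pow, p0, inv_pow, p1, inv_one, one_mul]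
    · rw [← h6_cj_fix_iff, h6_cj_mul, h6_cj_inv]
      show u1 * u2⁻¹ = u0 * u1⁻¹
      -- u2⁻¹ = u0 * u1
      have e2 : u2⁻¹ = u0 * u1 := by
        have := hp
        calc u2⁻¹ = 1 * u2⁻¹ := by rw [one_mul]
          _ = u0 * u1 * u2 * u2⁻¹ := by rw [hp]
          _ = u0 * u1 := by group
      have e1 : u1 * u1 = u1⁻¹ := by
        have : u1 * u1 * u1 = 1 := by simpa [pow_succ] using p1
        calc u1 * u1 = u1 * u1 * u1 * u1⁻¹ := by group
          _ = u1⁻¹ := by rw [this, one_mul]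
      rw [e2]
      calc u1 * (u0 * u1) = (u1 * u0) * u1 := by group
        _ = (u0 * u1) * u1 := by rw [c01]
        _ = u0 * (u1 * u1) := by group
        _ = u0 * u1⁻¹ := by rw [e1]
  · -- `p = u0 * u1 * u2` is fixed
    refine ⟨u0 * u1 * u2, A.mul_mem (A.mul_mem m0 m1) m2, hp, ?_, ?_⟩
    · have h1 : Commute (u0 * u1) u2 :=
        (show Commute u0 u2 from c02).mul_left (show Commute u1 u2 from c12)
      have h2 : Commute u0 u1 := c01
      rw [h1.mul_pow, h2.mul_pow, p0, p1, p2, one_mul, one_mul]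
    · rw [← h6_cj_fix_iff, h6_cj_mul, h6_cj_mul, hback]
      show u1 * u2 * u0 = u0 * u1 * u2
      calc u1 * u2 * u0 = u1 * (u2 * u0) := by group
        _ = u1 * (u0 * u2) := by rw [c02]
        _ = (u1 * u0) * u2 := by group
        _ = u0 * u1 * u2 := by rw [c01]

theorem l333 [Finite G]
    (hexp : ∀ g h : G, orderOf g = 3 → Commute g h → h ^ 3 = 1)
    (hcm : ∀ g h1 h2 : G, orderOf g = 3 → Commute g h1 → Commute g h2 → Commute h1 h2)
    (x y : G) (hx : orderOf x = 3) (hy : y ^ 3 = 1) (hxy : (x * y) ^ 3 = 1) :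
    Commute x y ∨ IsConj x y := by
  have hx3 : x ^ 3 = 1 := by rw [← hx]; exact pow_orderOf_eq_one x
  have hx3' : x * x * x = 1 := by simpa [pow_succ] using hx3
  have hy3' : y * y * y = 1 := by simpa [pow_succ] using hy
  have h1 : x * y * x * (y * x * y) = 1 := by
    have h := hxy
    simp only [pow_succ, pow_zero, one_mul] at h
    calc x * y * x * (y * x * y) = x * y * (x * y) * (x * y) := by group
      _ = 1 := h
  have hyy : y⁻¹ * y⁻¹ = y := by
    calc y⁻¹ * y⁻¹ = y⁻¹ * y⁻¹ * (y * y * y) := by rw [hy3', mul_one]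
      _ = y := by group
  have hxx : x * x = x⁻¹ := by
    calc x * x = x * x * x * x⁻¹ := by group
      _ = x⁻¹ := by rw [hx3', one_mul]
  obtain ⟨a, ha⟩ : ∃ a, a = x * y⁻¹ := ⟨_, rfl⟩
  obtain ⟨b, hb⟩ : ∃ b, b = y⁻¹ * x := ⟨_, rfl⟩
  have e1 : a * b = x * y * x := by
    rw [ha, hb]
    calc x * y⁻¹ * (y⁻¹ * x) = x * (y⁻¹ * y⁻¹) * x := by group
      _ = x * y * x := by rw [hyy]
  have e2 : b * a = (y * x * y)⁻¹ := by
    rw [ha, hb]
    calc y⁻¹ * x * (x * y⁻¹) = y⁻¹ * (x * x) * y⁻¹ := by group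
      _ = y⁻¹ * x⁻¹ * y⁻¹ := by rw [hxx]
      _ = (y * x * y)⁻¹ := by group
  have hab : a * b = b * a := by
    rw [e1, e2]
    exact eq_inv_of_mul_eq_one_left h1
  -- the abelian subgroup
  let A : Subgroup G := Subgroup.closure ({a, b} : Set G)
  have haA : a ∈ A := Subgroup.subset_closure (by simp)
  have hbA : b ∈ A := Subgroup.subset_closure (by simp)
  have hgen : ∀ g ∈ A, Commute g a ∧ Commute g b := by
    intro g hg
    induction hg using Subgroup.closure_induction with
    | mem z hz =>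
      rcases hz with rfl | hz
      · exact ⟨Commute.refl _, hab⟩
      · rw [Set.mem_singleton_iff] at hz
        subst hz
        exact ⟨hab.symm, Commute.refl _⟩
    | one => exact ⟨Commute.one_left _, Commute.one_left _⟩
    | mul g h _ _ ihg ihh => exact ⟨ihg.1.mul_left ihh.1, ihg.2.mul_left ihh.2⟩
    | inv g _ ih => exact ⟨ih.1.inv_left, ih.2.inv_left⟩
  have hcomm : ∀ g ∈ A, ∀ h ∈ A, g * h = h * g := by
    intro g hg h hh
    show Commute g h
    induction hh using Subgroup.closure_induction with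
    | mem z hz =>
      rcases hz with rfl | hz
      · exact (hgen g hg).1
      · rw [Set.mem_singleton_iff] at hz
        subst hz
        exact (hgen g hg).2
    | one => exact Commute.one_right _
    | mul h k _ _ ihh ihk => exact ihh.mul_right ihk
    | inv h _ ih => exact ih.inv_right
  -- `x` normalizes `A`
  have hcb : h6_cj x b = a := by
    rw [ha, hb]; unfold h6_cj; group
  have hca : h6_cj x a = (a * b)⁻¹ := by
    rw [e1, ha]; unfold h6_cj
    calc x * (x * y⁻¹) * x⁻¹ = (x * x) * y⁻¹ * x⁻¹ := by group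
      _ = x⁻¹ * y⁻¹ * x⁻¹ := by rw [hxx]
      _ = (x * y * x)⁻¹ := by group
  have hnorm : ∀ g ∈ A, h6_cj x g ∈ A := by
    intro g hg
    induction hg using Subgroup.closure_induction with
    | mem z hz =>
      rcases hz with rfl | hz
      · rw [hca]; exact A.inv_mem (A.mul_mem haA hbA)
      · rw [Set.mem_singleton_iff] at hz
        subst hz
        rw [hcb]; exact haA
    | one => unfold h6_cj; simp
    | mul g h _ _ ihg ihh => rw [h6_cj_mul]; exact A.mul_mem ihg ihh
    | inv g _ ih => rw [h6_cj_inv]; exact A.inv_mem ih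
  by_cases h3 : ∃ c ∈ A, c ≠ 1 ∧ c ^ 3 = 1
  · -- `x` and `a` lie in an abelian centralizer
    left
    obtain ⟨c, hcA, hc1, hc3⟩ := h3
    obtain ⟨d, hdA, hd1, hd3, hxd⟩ := h6_exists_fixed A hcomm x hx3 hnorm c hcA hc1 hc3
    have hdo : orderOf d = 3 := h6_order_three_of_cube hd1 hd3
    have hda : Commute d a := hcomm d hdA a haA
    have hxa : Commute x a := hcm d x a hdo hxd.symm hda
    -- x * (x * y⁻¹) = (x * y⁻¹) * x
    have h4 : x * (x * y⁻¹) = x * y⁻¹ * x := by rw [← ha]; exact hxa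
    have h5 : x * y⁻¹ = y⁻¹ * x := by
      have := congrArg (fun t => x⁻¹ * t) h4
      simpa [mul_assoc] using this
    have h6 : Commute x y⁻¹ := h5
    have h7 := h6.inv_right
    rwa [inv_inv] at h7
  · -- the commutator map is injective on `A`, hence onto
    right
    push Not at h3
    have hno : ∀ g ∈ A, g ^ 3 = 1 → g = 1 := by
      intro g hg h
      by_contra hne
      exact hne (by
        by_contra _
        exact (h3 g hg hne) h)
    let f : A → A := fun g =>
      ⟨(g : G) * h6_cj x ((g : G)⁻¹), A.mul_mem g.2 (hnorm _ (A.inv_mem g.2))⟩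
    have hf : Function.Injective f := by
      intro g h hgh
      have h7 : (g : G) * h6_cj x ((g : G)⁻¹) = (h : G) * h6_cj x ((h : G)⁻¹) :=
        congrArg Subtype.val hgh
      unfold h6_cj at h7
      -- g x g⁻¹ x⁻¹ = h x h⁻¹ x⁻¹  ⇒  h⁻¹ g commutes with x
      have h8 : (g : G) * x * (g : G)⁻¹ = (h : G) * x * (h : G)⁻¹ := by
        have := congrArg (fun t => t * x) h7
        simpa [mul_assoc] using this
      have h9 : Commute x ((h : G)⁻¹ * (g : G)) := by
        show x * ((h : G)⁻¹ * (g : G)) = (h : G)⁻¹ * (g : G) * x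
        calc x * ((h : G)⁻¹ * (g : G)) = (h : G)⁻¹ * ((h : G) * x * (h : G)⁻¹) * (g : G) := by group
          _ = (h : G)⁻¹ * ((g : G) * x * (g : G)⁻¹) * (g : G) := by rw [h8]
          _ = (h : G)⁻¹ * (g : G) * x := by group
      have h10 : ((h : G)⁻¹ * (g : G)) ^ 3 = 1 := hexp x _ hx h9
      have h11 := hno _ (A.mul_mem (A.inv_mem h.2) g.2) h10
      apply Subtype.ext
      calc (g : G) = (h : G) * ((h : G)⁻¹ * (g : G)) := by group
        _ = (h : G) := by rw [h11, mul_one]
    have hsurj : Function.Surjective f := Finite.injective_iff_surjective.mp hf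
    obtain ⟨g, hg⟩ := hsurj ⟨a⁻¹, A.inv_mem haA⟩
    have h12 : (g : G) * h6_cj x ((g : G)⁻¹) = a⁻¹ := congrArg Subtype.val hg
    unfold h6_cj at h12
    refine isConj_iff.mpr ⟨(g : G), ?_⟩
    -- g x g⁻¹ = a⁻¹ x = y
    calc (g : G) * x * (g : G)⁻¹ = ((g : G) * (x * (g : G)⁻¹ * x⁻¹)) * x := by group
      _ = a⁻¹ * x := by rw [h12]
      _ = y := by rw [ha]; group

end Cfsg.Agent.A6U
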