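import Mathlib
import Cfsg.Agent.A6U.R1_L333
import Cfsg.Agent.Helper2.M11_T2a

/-!
# S3341: the context (a self-centralizing T.I. Sylow 3-subgroup of order 9) and its local facts
-/

set_option autoImplicit false
set_option linter.style.haveILetI false

namespace Cfsg.Agent.A6U

open Cfsg.Agent.Helper6 Cfsg.Agent.Helper2.BrTI

universe u

variable {G : Type u} [Group G]

/-- the hypotheses of S3341 in a convenient form -/
structure Ctx (G : Type u) [Group G] where
  K : Subgroup G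
  hK9 : Nat.card K = 9
  hab : ∀ a ∈ K, ∀ b ∈ K, a * b = b * a
  hexp : ∀ a ∈ K, a ^ 3 = 1
  hcent : ∀ s ∈ K, s ≠ 1 → Subgroup.centralizer ({s} : Set G) = K
  hsyl : ∀ g : G, orderOf g = 3 → ∃ h : G, h * g * h⁻¹ ∈ K

namespace Ctx

variable (C : Ctx G)

theorem hC : ∀ k ∈ C.K, k ≠ 1 → Subgroup.centralizer ({k} : Set G) ≤ C.K :=
  fun k hk hk1 => (C.hcent k hk hk1).le

theorem mem_of_commute {s x : G} (hs : s ∈ C.K) (hs1 : s ≠ 1) (h : Commute s x) : x ∈ C.K := by
  rw [← C.hcent s hs hs1, Subgroup.mem_centralizer_iff]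
  intro y hy
  rw [Set.mem_singleton_iff] at hy
  subst hy
  exact h.eq

theorem orderOf_eq_three {k : G} (hk : k ∈ C.K) (hk1 : k ≠ 1) : orderOf k = 3 := by
  have h3 : orderOf k ∣ 3 := orderOf_dvd_of_pow_eq_one (C.hexp k hk)
  rcases (Nat.dvd_prime Nat.prime_three).mp h3 with h | h
  · exact absurd (orderOf_eq_one_iff.mp h) hk1
  · exact h

theorem conj_ne_one {g k : G} (hk1 : k ≠ 1) : g * k * g⁻¹ ≠ 1 := by
  intro h
  apply hk1
  have : k = g⁻¹ * (g * k * g⁻¹) * g := by group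
  rw [this, h]
  group

/-- `K` is a T.I. subgroup -/
theorem hTI : ∀ g : G, g ∉ Subgroup.normalizer (C.K : Set G) → ∀ k ∈ C.K,
    g * k * g⁻¹ ∈ C.K → k = 1 := by
  intro g hg k hk hgk
  by_contra hk1
  apply hg
  rw [Subgroup.mem_normalizer_iff]
  intro h
  constructor
  · intro hh
    apply C.mem_of_commute hgk (conj_ne_one hk1)
    have h1 : k * h = h * k := C.hab k hk h hh
    show g * k * g⁻¹ * (g * h * g⁻¹) = g * h * g⁻¹ * (g * k * g⁻¹)
    calc g * k * g⁻¹ * (g * h * g⁻¹) = g * (k * h) * g⁻¹ := by group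
      _ = g * (h * k) * g⁻¹ := by rw [h1]
      _ = _ := by group
  · intro hh
    apply C.mem_of_commute hk hk1
    have h1 : g * k * g⁻¹ * (g * h * g⁻¹) = g * h * g⁻¹ * (g * k * g⁻¹) :=
      C.hab _ hgk _ hh
    show k * h = h * k
    calc k * h = g⁻¹ * (g * k * g⁻¹ * (g * h * g⁻¹)) * g := by group
      _ = g⁻¹ * (g * h * g⁻¹ * (g * k * g⁻¹)) * g := by rw [h1]
      _ = _ := by group

/-- fusion in `K` is controlled by the normalizer -/
theorem conj_in_normalizer {a x : G} (ha : a ∈ C.K) (ha1 : a ≠ 1) (hx : x ∈ C.K)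
    (h : IsConj a x) : ∃ n ∈ Subgroup.normalizer (C.K : Set G), n * a * n⁻¹ = x := by
  obtain ⟨c, hc⟩ := isConj_iff.mp h
  refine ⟨c, ?_, hc⟩
  by_contra hcn
  exact ha1 (C.hTI c hcn a ha (by rw [hc]; exact hx))

/-- elements commuting with an element of order 3 have cube one -/
theorem hexpG (C : Ctx G) : ∀ g h : G, orderOf g = 3 → Commute g h → h ^ 3 = 1 := by
  intro g h hg hgh
  obtain ⟨u, hu⟩ := C.hsyl g hg
  have hg1 : g ≠ 1 := by
    intro h1
    rw [h1, orderOf_one] at hg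
    omega
  have hmem : u * h * u⁻¹ ∈ C.K := by
    apply C.mem_of_commute hu (conj_ne_one hg1)
    show u * g * u⁻¹ * (u * h * u⁻¹) = u * h * u⁻¹ * (u * g * u⁻¹)
    calc u * g * u⁻¹ * (u * h * u⁻¹) = u * (g * h) * u⁻¹ := by group
      _ = u * (h * g) * u⁻¹ := by rw [hgh.eq]
      _ = _ := by group
  have h3 := C.hexp _ hmem
  have h4 : (u * h * u⁻¹) ^ 3 = u * h ^ 3 * u⁻¹ := by
    rw [conj_pow]
  rw [h4] at h3
  have : h ^ 3 = u⁻¹ * (u * h ^ 3 * u⁻¹) * u := by group
  rw [this, h3]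
  group

/-- the centralizer of an element of order 3 is abelian -/
theorem hcmG (C : Ctx G) : ∀ g h1 h2 : G, orderOf g = 3 → Commute g h1 → Commute g h2 → Commute h1 h2 := by
  intro g h1 h2 hg hg1 hg2
  obtain ⟨u, hu⟩ := C.hsyl g hg
  have hgne : g ≠ 1 := by
    intro h
    rw [h, orderOf_one] at hg
    omega
  have key : ∀ h : G, Commute g h → u * h * u⁻¹ ∈ C.K := by
    intro h hgh
    apply C.mem_of_commute hu (conj_ne_one hgne)
    show u * g * u⁻¹ * (u * h * u⁻¹) = u * h * u⁻¹ * (u * g * u⁻¹)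
    calc u * g * u⁻¹ * (u * h * u⁻¹) = u * (g * h) * u⁻¹ := by group
      _ = u * (h * g) * u⁻¹ := by rw [hgh.eq]
      _ = _ := by group
  have h3 := C.hab _ (key h1 hg1) _ (key h2 hg2)
  show h1 * h2 = h2 * h1
  calc h1 * h2 = u⁻¹ * (u * h1 * u⁻¹ * (u * h2 * u⁻¹)) * u := by group
    _ = u⁻¹ * (u * h2 * u⁻¹ * (u * h1 * u⁻¹)) * u := by rw [h3]
    _ = _ := by group

/-- the key consequence of the (3,3,3) lemma: pairs from two different classes of elements of
order 3 with product in `K` lie in `K` -/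
theorem forced [Finite G] {a b x y : G} (ha : a ∈ C.K) (ha1 : a ≠ 1) (hb : b ∈ C.K)
    (hab : ¬ IsConj a b) (hx : IsConj a x) (hy : IsConj b y) (hxy : x * y = a) :
    x ∈ C.K ∧ y ∈ C.K := by
  have hox : orderOf x = 3 := by
    obtain ⟨c, hc⟩ := isConj_iff.mp hx
    rw [← hc, show c * a * c⁻¹ = MulAut.conj c a from rfl, MulEquiv.orderOf_eq]
    exact C.orderOf_eq_three ha ha1
  have hy3 : y ^ 3 = 1 := by
    obtain ⟨c, hc⟩ := isConj_iff.mp hy
    rw [← hc, conj_pow, C.hexp b hb]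
    group
  have hxy3 : (x * y) ^ 3 = 1 := by rw [hxy]; exact C.hexp a ha
  rcases l333 C.hexpG C.hcmG x y hox hy3 hxy3 with h | h
  · have h1 : Commute a x := by
      rw [← hxy]
      show x * y * x = x * (x * y)
      rw [mul_assoc, h.eq.symm]
    have h2 : Commute a y := by
      rw [← hxy]
      show x * y * y = y * (x * y)
      rw [← mul_assoc, h.eq.symm]
    exact ⟨C.mem_of_commute ha ha1 h1, C.mem_of_commute ha ha1 h2⟩
  · exact absurd ((hx.trans h).trans hy.symm) hab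

end Ctx

end Cfsg.Agent.A6U
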