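import Mathlib
import Cfsg.Agent.A6U.H4_Ctx
import Cfsg.Agent.Helper2.BrTIH

/-!
# S3341: the context from the hypotheses of the statement
-/

set_option autoImplicit false
set_option linter.style.haveILetI false

namespace Cfsg.Agent.A6U

open Cfsg.Agent.Helper6 Cfsg.Agent.Helper2.BrTI

universe u

variable {G : Type u} [Group G]

/-- an element of order 3 is conjugate into a given Sylow 3-subgroup -/
theorem h4_conj_into_sylow [Finite G] (P : Sylow 3 G) (g : G) (hg : orderOf g = 3) :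
    ∃ h : G, h * g * h⁻¹ ∈ (P : Subgroup G) := by
  haveI : Fact (Nat.Prime 3) := ⟨Nat.prime_three⟩
  have hp : IsPGroup 3 (Subgroup.zpowers g) := by
    rw [IsPGroup.iff_card]
    exact ⟨1, by rw [Nat.card_zpowers, hg, pow_one]⟩
  obtain ⟨Q, hQ⟩ := hp.exists_le_sylow
  obtain ⟨h, hh⟩ := MulAction.exists_smul_eq G Q P
  refine ⟨h, ?_⟩
  have hgQ : g ∈ (Q : Subgroup G) := hQ (Subgroup.mem_zpowers g)
  have h1 : h * g * h⁻¹ ∈ ((h • Q : Sylow 3 G) : Subgroup G) := by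
    rw [Sylow.coe_subgroup_smul]
    have := Subgroup.smul_mem_pointwise_smul g (MulAut.conj h) (Q : Subgroup G) hgQ
    simpa [MulAut.smul_def, MulAut.conj_apply] using this
  rw [hh] at h1
  exact h1

theorem exists_ctx [Finite G] [IsSimpleGroup G]
    (P : Sylow 3 G) (S : Subgroup G) (hSP : S = P) (hcomm : IsMulCommutative S)
    (hexp : ∀ a ∈ S, a ^ 3 = 1) (hcard : Nat.card S = 9)
    (hclasses : ∃ a b : G, orderOf a = 3 ∧ orderOf b = 3 ∧ ∀ g : G, g * a * g⁻¹ ≠ b)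
    (hcent : ∀ s ∈ S, s ≠ 1 → Subgroup.centralizer ({s} : Set G) = S) :
    ∃ C : Ctx G, C.K = S ∧ ∃ a b : G, a ∈ C.K ∧ a ≠ 1 ∧ b ∈ C.K ∧ b ≠ 1 ∧ ¬ IsConj a b := by
  have hsyl : ∀ g : G, orderOf g = 3 → ∃ h : G, h * g * h⁻¹ ∈ S := by
    intro g hg
    rw [hSP]
    exact h4_conj_into_sylow P g hg
  have hab : ∀ a ∈ S, ∀ b ∈ S, a * b = b * a := by
    intro a ha b hb
    have := hcomm.is_comm.comm (⟨a, ha⟩ : ↥S) ⟨b, hb⟩
    exact congrArg Subtype.val this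
  refine ⟨⟨S, hcard, hab, hexp, hcent, hsyl⟩, rfl, ?_⟩
  obtain ⟨a₀, b₀, ha₀, hb₀, hne⟩ := hclasses
  obtain ⟨h, hh⟩ := hsyl a₀ ha₀
  obtain ⟨k, hk⟩ := hsyl b₀ hb₀
  have ha₀1 : a₀ ≠ 1 := by
    intro h1
    rw [h1, orderOf_one] at ha₀
    omega
  have hb₀1 : b₀ ≠ 1 := by
    intro h1
    rw [h1, orderOf_one] at hb₀
    omega
  refine ⟨h * a₀ * h⁻¹, k * b₀ * k⁻¹, hh, Ctx.conj_ne_one ha₀1, hk, Ctx.conj_ne_one hb₀1, ?_⟩
  intro hconj
  obtain ⟨c, hc⟩ := isConj_iff.mp hconj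
  apply hne (k⁻¹ * c * h)
  have : k⁻¹ * c * h * a₀ * (k⁻¹ * c * h)⁻¹ = k⁻¹ * (c * (h * a₀ * h⁻¹) * c⁻¹) * k := by group
  rw [this, hc]
  group

/-- in a simple group of order divisible by 9 every nontrivial irreducible character has
degree at least 2 -/
theorem two_le_degree [Finite G] [IsSimpleGroup G] (h9 : 9 ∣ Nat.card G)
    (χ : Cfsg.IrrCharacter G) (hχ : χ ≠ ⟨fun _ => 1, isIrrCharacter_one⟩) :
    2 ≤ Cfsg.charDegree (χ : G → ℂ) := by
  have hnp : ¬ (Nat.card G).Prime := by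
    intro hp
    have := (Nat.dvd_prime hp).mp h9
    rcases this with h | h
    · omega
    · rw [← h] at hp
      exact absurd hp (by decide)
  have hperf := perfect_of_simple (G := G) hnp
  obtain ⟨n, hn, hn1⟩ := IsIrrCharacter.apply_one_pos χ.2
  have hdeg : Cfsg.charDegree (χ : G → ℂ) = n := by
    have := charDegree_cast_of_isCharacter (IsIrrCharacter.isCharacter χ.2)
    rw [hn1] at this
    exact_mod_cast this
  rw [hdeg]
  by_contra hlt
  have hn1' : n = 1 := by omega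
  rw [hn1'] at hn1
  have hcard := card_linear_irr (G := G)
  rw [hperf, Subgroup.index_top] at hcard
  have hsub : Subsingleton {χ : Cfsg.IrrCharacter G // (χ : G → ℂ) 1 = 1} :=
    (Nat.card_eq_one_iff_unique.mp hcard).1
  have := Subsingleton.elim (⟨χ, by simpa using hn1⟩ :
    {χ : Cfsg.IrrCharacter G // (χ : G → ℂ) 1 = 1}) ⟨⟨fun _ => 1, isIrrCharacter_one⟩, rfl⟩
  exact hχ (congrArg Subtype.val this)

end Cfsg.Agent.A6U
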