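-- helper9: S3341 / A6U piece R3 (pure part): the two local counts `0` (e = 2) and `2` (e = 4)
-- of factorizations `x * y = a` with `x` in the class of `a` and `y` in the class of `b`,
-- phrased for arbitrary finsets `A`, `B` of a group described by membership conditions.
import Mathlib

set_option autoImplicit false

namespace Cfsg.Agent.A6U

variable {G : Type*} [Group G]

/-- For fixed `x`, exactly one `y` satisfies `x * y = a`. -/
theorem h9_inner_sum [DecidableEq G] {R : Type*} [Semiring R] (B : Finset G) (x a : G) :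
    ∑ y ∈ B, (if x * y = a then (1 : R) else 0) = if x⁻¹ * a ∈ B then 1 else 0 := by
  have h : ∀ y : G, (x * y = a) ↔ (y = x⁻¹ * a) := by
    intro y
    constructor
    · intro h
      rw [← h, inv_mul_cancel_left]
    · intro h
      rw [h, mul_inv_cancel_left]
  simp_rw [h]
  rw [Finset.sum_ite_eq']

/-- `a ≠ a⁻¹` for an element of order three. -/
theorem h9_ne_inv {a : G} (ha : a ≠ 1) (ha3 : a ^ 3 = 1) : a ≠ a⁻¹ := by
  intro h
  apply ha
  have h2 : a * a = 1 := by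
    calc a * a = a * a⁻¹ := by rw [← h]
      _ = 1 := mul_inv_cancel a
  have : a ^ 3 = a := by
    rw [pow_succ, pow_two, h2, one_mul]
  rw [← this, ha3]

/-- `a * a = a⁻¹` for an element with `a ^ 3 = 1`. -/
theorem h9_sq_eq_inv {a : G} (ha3 : a ^ 3 = 1) : a * a = a⁻¹ := by
  rw [eq_inv_iff_mul_eq_one, ← pow_two, ← pow_succ]
  exact ha3

/-- **Case `e = 2`.** `A = {a, a⁻¹}`, `B` avoids `1` and `a⁻¹`: no factorization. -/
theorem h9_count_two [DecidableEq G] {R : Type*} [Semiring R] (a : G) (A B : Finset G)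
    (ha3 : a ^ 3 = 1)
    (hA : ∀ x, x ∈ A → x = a ∨ x = a⁻¹)
    (hB : ∀ y ∈ B, y ≠ 1 ∧ y ≠ a⁻¹) :
    ∑ x ∈ A, ∑ y ∈ B, (if x * y = a then (1 : R) else 0) = 0 := by
  apply Finset.sum_eq_zero
  intro x hx
  rw [h9_inner_sum]
  rw [if_neg]
  intro hmem
  obtain ⟨h1, h2⟩ := hB _ hmem
  rcases hA x hx with rfl | rfl
  · exact h1 (inv_mul_cancel x)
  · rw [inv_inv] at hmem h1 h2
    exact h2 (h9_sq_eq_inv ha3)

/-- **Case `e = 4`, core form.** `A = {a, a⁻¹, v, v⁻¹}`, `B` avoids `1` and `A`, and contains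
`v⁻¹ * a` and `v * a`: exactly two factorizations. -/
theorem h9_count_four_core [DecidableEq G] {R : Type*} [Semiring R] (a v : G) (A B : Finset G)
    (ha : a ≠ 1) (ha3 : a ^ 3 = 1) (hv1 : v ≠ 1) (hv3 : v ^ 3 = 1)
    (hva : v ≠ a) (hva' : v ≠ a⁻¹)
    (hA : ∀ x, x ∈ A ↔ x = a ∨ x = a⁻¹ ∨ x = v ∨ x = v⁻¹)
    (hB : ∀ y ∈ B, y ≠ 1 ∧ y ∉ A)
    (hB1 : v⁻¹ * a ∈ B) (hB2 : v * a ∈ B) :
    ∑ x ∈ A, ∑ y ∈ B, (if x * y = a then (1 : R) else 0) = 2 := by
  have hAeq : A = insert a (insert a⁻¹ (insert v {v⁻¹})) := by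
    ext x
    rw [hA]
    simp only [Finset.mem_insert, Finset.mem_singleton]
  have hav' : a ≠ v⁻¹ := by
    intro h
    apply hva'
    rw [h, inv_inv]
  have hai_v : a⁻¹ ≠ v := by
    intro h
    exact hva' h.symm
  have hai_vi : a⁻¹ ≠ v⁻¹ := by
    intro h
    exact hva (inv_injective h).symm
  have n1 : a ∉ (insert a⁻¹ (insert v {v⁻¹}) : Finset G) := by
    simp only [Finset.mem_insert, Finset.mem_singleton, not_or]
    exact ⟨h9_ne_inv ha ha3, fun h => hva h.symm, hav'⟩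
  have n2 : a⁻¹ ∉ (insert v {v⁻¹} : Finset G) := by
    simp only [Finset.mem_insert, Finset.mem_singleton, not_or]
    exact ⟨hai_v, hai_vi⟩
  have n3 : v ∉ ({v⁻¹} : Finset G) := by
    simp only [Finset.mem_singleton]
    exact h9_ne_inv hv1 hv3
  simp_rw [h9_inner_sum]
  rw [hAeq, Finset.sum_insert n1, Finset.sum_insert n2, Finset.sum_insert n3,
    Finset.sum_singleton]
  have t1 : a⁻¹ * a ∉ B := by
    intro h
    exact (hB _ h).1 (inv_mul_cancel a)
  have t2 : a⁻¹⁻¹ * a ∉ B := by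
    intro h
    apply (hB _ h).2
    rw [inv_inv, h9_sq_eq_inv ha3, hA]
    exact Or.inr (Or.inl rfl)
  have t4 : v⁻¹⁻¹ * a ∈ B := by
    rw [inv_inv]
    exact hB2
  rw [if_neg t1, if_neg t2, if_pos hB1, if_pos t4]
  norm_num

/-- **Case `e = 4`, subgroup form.** `K` a subgroup containing the commuting elements `a`, `v`
of order three, `v ∉ {1, a, a⁻¹}`, `A = {a, a⁻¹, v, v⁻¹}`, `B = K ∖ ({1} ∪ A)`. -/
theorem h9_count_four [DecidableEq G] {R : Type*} [Semiring R] (K : Subgroup G) (a v : G) (A B : Finset G)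
    (haK : a ∈ K) (hvK : v ∈ K)
    (ha : a ≠ 1) (ha3 : a ^ 3 = 1) (hv1 : v ≠ 1) (hv3 : v ^ 3 = 1)
    (hva : v ≠ a) (hva' : v ≠ a⁻¹)
    (hA : ∀ x, x ∈ A ↔ x = a ∨ x = a⁻¹ ∨ x = v ∨ x = v⁻¹)
    (hB : ∀ y, y ∈ B ↔ y ∈ K ∧ y ≠ 1 ∧ y ∉ A) :
    ∑ x ∈ A, ∑ y ∈ B, (if x * y = a then (1 : R) else 0) = 2 := by
  have hvv : v * v = v⁻¹ := h9_sq_eq_inv hv3
  have haa : a * a = a⁻¹ := h9_sq_eq_inv ha3
  refine h9_count_four_core a v A B ha ha3 hv1 hv3 hva hva' hA
    (fun y hy => ((hB y).mp hy).2) ?_ ?_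
  · -- v⁻¹ * a ∈ B
    rw [hB]
    refine ⟨K.mul_mem (K.inv_mem hvK) haK, ?_, ?_⟩
    · intro h
      apply hva
      have : a = v := by
        calc a = v * (v⁻¹ * a) := by rw [mul_inv_cancel_left]
          _ = v := by rw [h, mul_one]
      exact this.symm
    · rw [hA]
      rintro (h | h | h | h)
      · -- v⁻¹ * a = a
        apply hv1
        have : v⁻¹ = 1 := mul_eq_right.mp h
        exact inv_eq_one.mp this
      · -- v⁻¹ * a = a⁻¹  → v = a * a = a⁻¹
        apply hva'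
        have : a * a = v := by
          calc a * a = v * (v⁻¹ * a) * a := by rw [mul_inv_cancel_left]
            _ = v := by rw [h, mul_assoc, inv_mul_cancel, mul_one]
        rw [← this, haa]
      · -- v⁻¹ * a = v → a = v * v = v⁻¹
        apply hva'
        have : a = v * v := by
          calc a = v * (v⁻¹ * a) := by rw [mul_inv_cancel_left]
            _ = v * v := by rw [h]
        rw [this, hvv, inv_inv]
      · -- v⁻¹ * a = v⁻¹
        apply ha
        exact mul_eq_left.mp h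
  · -- v * a ∈ B
    rw [hB]
    refine ⟨K.mul_mem hvK haK, ?_, ?_⟩
    · intro h
      exact hva' (eq_inv_of_mul_eq_one_left h)
    · rw [hA]
      rintro (h | h | h | h)
      · exact hv1 (mul_eq_right.mp h)
      · -- v * a = a⁻¹ → v = a⁻¹ * a⁻¹ = a
        apply hva
        have : v = a⁻¹ * a⁻¹ := by
          calc v = v * a * a⁻¹ := by rw [mul_inv_cancel_right]
            _ = a⁻¹ * a⁻¹ := by rw [h]
        rw [this, ← mul_inv_rev, haa, inv_inv]
      · exact ha (mul_eq_left.mp h)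
      · -- v * a = v⁻¹ → a = v⁻¹ * v⁻¹ = v
        apply hva
        have : a = v⁻¹ * v⁻¹ := by
          calc a = v⁻¹ * (v * a) := by rw [inv_mul_cancel_left]
            _ = v⁻¹ * v⁻¹ := by rw [h]
        rw [this, ← mul_inv_rev, hvv, inv_inv]

end Cfsg.Agent.A6U
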