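-- helper9: S3341 / A6U piece R3' : the inverter, the N-classes in `K#`, and the four counts
-- (LHS verbatim as in `Helper4.Bsw2.class_mult_count`).
import Mathlib
import Cfsg.Agent.A6U.H4_Ctx
import Cfsg.Agent.A6U.H9_Count
import Cfsg.Agent.Helper6.CentralChar
import Cfsg.Agent.Helper2.BrTIB

set_option autoImplicit false
set_option linter.style.haveILetI false

namespace Cfsg.Agent.A6U

open Cfsg.Agent.Helper6 Cfsg.Agent.Helper2.BrTI

universe u

variable {G : Type u} [Group G]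

section R3
variable [Fintype G] [DecidableEq G] (C : Ctx G)

theorem h9_norm_conj_mem {n k : G} (hn : n ∈ Subgroup.normalizer (C.K : Set G)) (hk : k ∈ C.K) :
    n * k * n⁻¹ ∈ C.K :=
  (Subgroup.mem_normalizer_iff.mp hn k).mp hk

theorem h9_K_le_norm : C.K ≤ Subgroup.normalizer (C.K : Set G) := Subgroup.le_normalizer

theorem exists_inverter
    (he : Even (C.K.subgroupOf (Subgroup.normalizer (C.K : Set G))).index) :
    ∃ τ ∈ Subgroup.normalizer (C.K : Set G), ∀ k ∈ C.K, τ * k * τ⁻¹ = k⁻¹ := by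
  have h2 : 2 ∣ Nat.card ↥(Subgroup.normalizer (C.K : Set G)) := by
    rw [← Subgroup.card_mul_index (C.K.subgroupOf (Subgroup.normalizer (C.K : Set G)))]
    exact Dvd.dvd.mul_left he.two_dvd _
  haveI : Fact (Nat.Prime 2) := ⟨Nat.prime_two⟩
  obtain ⟨τ', hτ'⟩ := exists_prime_orderOf_dvd_card' 2 h2
  have hτo : orderOf (τ' : G) = 2 := by rw [Subgroup.orderOf_coe]; exact hτ'
  have hτ2 : (τ' : G) * (τ' : G) = 1 := by
    have := pow_orderOf_eq_one (τ' : G)
    rw [hτo, pow_two] at this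
    exact this
  have hτinv : (τ' : G)⁻¹ = (τ' : G) := inv_eq_of_mul_eq_one_left hτ2
  refine ⟨(τ' : G), τ'.2, ?_⟩
  intro k hk
  set τ : G := (τ' : G) with hτ
  have hck : τ * k * τ⁻¹ ∈ C.K := h9_norm_conj_mem C τ'.2 hk
  by_contra hne
  have hu : k * (τ * k * τ⁻¹) ∈ C.K := C.K.mul_mem hk hck
  have hu1 : k * (τ * k * τ⁻¹) ≠ 1 := by
    intro h
    apply hne
    exact (eq_inv_of_mul_eq_one_right h)
  have hcomm : Commute (k * (τ * k * τ⁻¹)) τ := by
    have hab := C.hab k hk _ hck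
    show k * (τ * k * τ⁻¹) * τ = τ * (k * (τ * k * τ⁻¹))
    rw [hτinv]
    calc k * (τ * k * τ) * τ = k * τ * k * (τ * τ) := by group
      _ = k * τ * k := by rw [hτ2, mul_one]
      _ = (k * (τ * k * τ⁻¹)) * τ := by group
      _ = ((τ * k * τ⁻¹) * k) * τ := by rw [hab]
      _ = τ * (k * (τ⁻¹ * k * τ)) := by group
      _ = τ * (k * (τ * k * τ)) := by rw [hτinv]
  have hτK : τ ∈ C.K := C.mem_of_commute hu hu1 hcomm
  have hτ3 : τ ^ 3 = 1 := C.hexp τ hτK
  have hτ1 : τ = 1 := by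
    have : τ ^ 3 = τ := by
      rw [pow_succ, pow_two, hτ2, one_mul]
    rw [← this, hτ3]
  rw [hτ1, orderOf_one] at hτo
  omega

theorem isConj_inv_N
    (he : Even (C.K.subgroupOf (Subgroup.normalizer (C.K : Set G))).index)
    (b : ↥(Subgroup.normalizer (C.K : Set G))) (hb : (b : G) ∈ C.K) : IsConj b b⁻¹ := by
  obtain ⟨τ, hτ, hinv⟩ := exists_inverter C he
  rw [isConj_iff]
  refine ⟨⟨τ, hτ⟩, ?_⟩
  apply Subtype.ext
  simp only [Subgroup.coe_mul, Subgroup.coe_inv]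
  exact hinv _ hb

/-! ### The `N`-class of an element, as a finset of `G` -/

open scoped Classical in
/-- the `N_G(K)`-class of `a`, as a finset of `G` -/
noncomputable def h9_ncl (a : G) : Finset G :=
  Finset.univ.filter (fun x => ∃ n ∈ Subgroup.normalizer (C.K : Set G), n * a * n⁻¹ = x)

theorem h9_mem_ncl (a x : G) :
    x ∈ h9_ncl C a ↔ ∃ n ∈ Subgroup.normalizer (C.K : Set G), n * a * n⁻¹ = x := by
  classical
  unfold h9_ncl
  simp

theorem h9_self_mem_ncl (a : G) : a ∈ h9_ncl C a := by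
  rw [h9_mem_ncl]
  exact ⟨1, Subgroup.one_mem _, by group⟩

theorem h9_ncl_eq_map [Fintype ↥(Subgroup.normalizer (C.K : Set G))]
    (a : ↥(Subgroup.normalizer (C.K : Set G))) :
    h9_ncl C (a : G) = (classFinset a).map ⟨Subtype.val, Subtype.val_injective⟩ := by
  ext x
  rw [h9_mem_ncl, Finset.mem_map]
  constructor
  · rintro ⟨n, hn, rfl⟩
    refine ⟨⟨n, hn⟩ * a * ⟨n, hn⟩⁻¹, ?_, ?_⟩
    · rw [mem_classFinset, isConj_iff]
      exact ⟨⟨n, hn⟩, rfl⟩
    · simp
  · rintro ⟨y, hy, rfl⟩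
    rw [mem_classFinset, isConj_iff] at hy
    obtain ⟨c, hc⟩ := hy
    refine ⟨(c : G), c.2, ?_⟩
    rw [← hc]
    simp

theorem h9_card_ncl {a : G} (ha : a ∈ C.K) (ha1 : a ≠ 1) :
    (h9_ncl C a).card = (C.K.subgroupOf (Subgroup.normalizer (C.K : Set G))).index := by
  classical
  haveI : Fintype ↥(Subgroup.normalizer (C.K : Set G)) := Fintype.ofFinite _
  have haN : a ∈ Subgroup.normalizer (C.K : Set G) := h9_K_le_norm C ha
  have h1 : (⟨a, haN⟩ : ↥(Subgroup.normalizer (C.K : Set G))) ≠ 1 := by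
    intro h
    exact ha1 (congrArg Subtype.val h)
  have := h9_ncl_eq_map C ⟨a, haN⟩
  rw [this, Finset.card_map, card_classFinset,
    centralizer_in_normalizer C.K C.hC C.hab ⟨a, haN⟩ ha h1]

theorem h9_ncl_mem_K {a x : G} (ha : a ∈ C.K) (hx : x ∈ h9_ncl C a) : x ∈ C.K := by
  rw [h9_mem_ncl] at hx
  obtain ⟨n, hn, rfl⟩ := hx
  exact h9_norm_conj_mem C hn ha

theorem h9_ncl_ne_one {a x : G} (ha1 : a ≠ 1) (hx : x ∈ h9_ncl C a) : x ≠ 1 := by
  rw [h9_mem_ncl] at hx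
  obtain ⟨n, hn, rfl⟩ := hx
  exact Ctx.conj_ne_one ha1

theorem h9_ncl_isConj {a x : G} (hx : x ∈ h9_ncl C a) : IsConj a x := by
  rw [h9_mem_ncl] at hx
  obtain ⟨n, hn, rfl⟩ := hx
  exact isConj_iff.mpr ⟨n, rfl⟩

/-- the `G`-class of `a ∈ K#` meets `K` exactly in the `N`-class -/
theorem h9_mem_ncl_iff {a x : G} (ha : a ∈ C.K) (ha1 : a ≠ 1) :
    x ∈ h9_ncl C a ↔ IsConj a x ∧ x ∈ C.K := by
  constructor
  · intro hx
    exact ⟨h9_ncl_isConj C hx, h9_ncl_mem_K C ha hx⟩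
  · rintro ⟨hc, hxK⟩
    rw [h9_mem_ncl]
    obtain ⟨n, hn, hnx⟩ := C.conj_in_normalizer ha ha1 hxK hc
    exact ⟨n, hn, hnx⟩

theorem h9_ncl_disjoint {a b : G} (hab : ¬ IsConj a b) :
    Disjoint (h9_ncl C a) (h9_ncl C b) := by
  rw [Finset.disjoint_left]
  intro x hxa hxb
  exact hab ((h9_ncl_isConj C hxa).trans (h9_ncl_isConj C hxb).symm)

theorem h9_inv_mem_ncl
    (he : Even (C.K.subgroupOf (Subgroup.normalizer (C.K : Set G))).index)
    {a x : G} (ha : a ∈ C.K) (hx : x ∈ h9_ncl C a) : x⁻¹ ∈ h9_ncl C a := by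
  obtain ⟨τ, hτ, hinv⟩ := exists_inverter C he
  rw [h9_mem_ncl] at hx ⊢
  obtain ⟨n, hn, rfl⟩ := hx
  refine ⟨n * τ, Subgroup.mul_mem _ hn hτ, ?_⟩
  have := hinv a ha
  calc n * τ * a * (n * τ)⁻¹ = n * (τ * a * τ⁻¹) * n⁻¹ := by group
    _ = n * a⁻¹ * n⁻¹ := by rw [this]
    _ = (n * a * n⁻¹)⁻¹ := by group

open scoped Classical in
/-- the elements of `K`, as a finset -/
noncomputable def h9_Kf : Finset G := Finset.univ.filter (fun x => x ∈ C.K)

theorem h9_mem_Kf (x : G) : x ∈ h9_Kf C ↔ x ∈ C.K := by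
  classical
  unfold h9_Kf
  simp

theorem h9_card_Kf : (h9_Kf C).card = 9 := by
  classical
  rw [← C.hK9, Nat.card_eq_fintype_card, Fintype.card_subtype]
  unfold h9_Kf
  congr

/-- `{1} ∪ cl_N(a) ∪ cl_N(b) ⊆ K` -/
theorem h9_insert_sub {a b : G} (ha : a ∈ C.K) (hb : b ∈ C.K) :
    insert 1 (h9_ncl C a ∪ h9_ncl C b) ⊆ h9_Kf C := by
  intro x hx
  rw [h9_mem_Kf]
  rw [Finset.mem_insert, Finset.mem_union] at hx
  rcases hx with rfl | hx | hx
  · exact C.K.one_mem
  · exact h9_ncl_mem_K C ha hx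
  · exact h9_ncl_mem_K C hb hx

theorem h9_card_insert {a b : G} (ha : a ∈ C.K) (ha1 : a ≠ 1) (hb : b ∈ C.K) (hb1 : b ≠ 1)
    (hab : ¬ IsConj a b) :
    (insert 1 (h9_ncl C a ∪ h9_ncl C b)).card =
      2 * (C.K.subgroupOf (Subgroup.normalizer (C.K : Set G))).index + 1 := by
  have hnot : (1 : G) ∉ h9_ncl C a ∪ h9_ncl C b := by
    rw [Finset.mem_union]
    rintro (h | h)
    · exact h9_ncl_ne_one C ha1 h rfl
    · exact h9_ncl_ne_one C hb1 h rfl
  rw [Finset.card_insert_of_notMem hnot, Finset.card_union_of_disjoint (h9_ncl_disjoint C hab),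
    h9_card_ncl C ha ha1, h9_card_ncl C hb hb1]
  ring

/-- two nonconjugate elements of `K#` force `e ≤ 4` -/
theorem index_le_four {a b : G} (ha : a ∈ C.K) (ha1 : a ≠ 1) (hb : b ∈ C.K) (hb1 : b ≠ 1)
    (hab : ¬ IsConj a b) :
    (C.K.subgroupOf (Subgroup.normalizer (C.K : Set G))).index ≤ 4 := by
  have h1 := Finset.card_le_card (h9_insert_sub C ha hb)
  rw [h9_card_insert C ha ha1 hb hb1 hab, h9_card_Kf] at h1
  omega

/-! ### The local sums -/

theorem h9_sum_two (he : (C.K.subgroupOf (Subgroup.normalizer (C.K : Set G))).index = 2)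
    {a b : G} (ha : a ∈ C.K) (ha1 : a ≠ 1) (hb1 : b ≠ 1) (hab : ¬ IsConj a b) :
    ∑ x ∈ h9_ncl C a, ∑ y ∈ h9_ncl C b, (if x * y = a then (1 : ℂ) else 0) = 0 := by
  have heven : Even (C.K.subgroupOf (Subgroup.normalizer (C.K : Set G))).index := by
    rw [he]; exact even_two
  have ha3 : a ^ 3 = 1 := C.hexp a ha
  have hainv : a⁻¹ ∈ h9_ncl C a := h9_inv_mem_ncl C heven ha (h9_self_mem_ncl C a)
  have hne : a ≠ a⁻¹ := h9_ne_inv ha1 ha3
  have hsub : ({a, a⁻¹} : Finset G) ⊆ h9_ncl C a := by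
    intro x hx
    rw [Finset.mem_insert, Finset.mem_singleton] at hx
    rcases hx with rfl | rfl
    · exact h9_self_mem_ncl C _
    · exact hainv
  have hcard : ({a, a⁻¹} : Finset G).card = 2 := Finset.card_pair hne
  have heq : ({a, a⁻¹} : Finset G) = h9_ncl C a :=
    Finset.eq_of_subset_of_card_le hsub (by rw [hcard, h9_card_ncl C ha ha1, he])
  apply h9_count_two a _ _ ha3
  · intro x hx
    rw [← heq, Finset.mem_insert, Finset.mem_singleton] at hx
    exact hx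
  · intro y hy
    refine ⟨h9_ncl_ne_one C hb1 hy, ?_⟩
    intro hya
    apply hab
    have h1 : IsConj b a⁻¹ := by
      rw [← hya]; exact h9_ncl_isConj C hy
    exact ((h9_ncl_isConj C hainv).trans h1.symm)

theorem h9_sum_four (he : (C.K.subgroupOf (Subgroup.normalizer (C.K : Set G))).index = 4)
    {a b : G} (ha : a ∈ C.K) (ha1 : a ≠ 1) (hb : b ∈ C.K) (hb1 : b ≠ 1) (hab : ¬ IsConj a b) :
    ∑ x ∈ h9_ncl C a, ∑ y ∈ h9_ncl C b, (if x * y = a then (1 : ℂ) else 0) = 2 := by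
  have heven : Even (C.K.subgroupOf (Subgroup.normalizer (C.K : Set G))).index := by
    rw [he]; exact ⟨2, rfl⟩
  have ha3 : a ^ 3 = 1 := C.hexp a ha
  have hainv : a⁻¹ ∈ h9_ncl C a := h9_inv_mem_ncl C heven ha (h9_self_mem_ncl C a)
  have hne : a ≠ a⁻¹ := h9_ne_inv ha1 ha3
  have hsub2 : ({a, a⁻¹} : Finset G) ⊆ h9_ncl C a := by
    intro x hx
    rw [Finset.mem_insert, Finset.mem_singleton] at hx
    rcases hx with rfl | rfl
    · exact h9_self_mem_ncl C _
    · exact hainv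
  have hcard2 : ({a, a⁻¹} : Finset G).card = 2 := Finset.card_pair hne
  have hlt : ({a, a⁻¹} : Finset G).card < (h9_ncl C a).card := by
    rw [hcard2, h9_card_ncl C ha ha1, he]; norm_num
  obtain ⟨v, hv, hvn⟩ := Finset.exists_mem_notMem_of_card_lt_card hlt
  rw [Finset.mem_insert, Finset.mem_singleton, not_or] at hvn
  obtain ⟨hva, hva'⟩ := hvn
  have hvK : v ∈ C.K := h9_ncl_mem_K C ha hv
  have hv1 : v ≠ 1 := h9_ncl_ne_one C ha1 hv
  have hv3 : v ^ 3 = 1 := C.hexp v hvK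
  have hvinv : v⁻¹ ∈ h9_ncl C a := h9_inv_mem_ncl C heven ha hv
  have hvne : v ≠ v⁻¹ := h9_ne_inv hv1 hv3
  -- the N-class of a is {a, a⁻¹, v, v⁻¹}
  have hsub4 : ({a, a⁻¹, v, v⁻¹} : Finset G) ⊆ h9_ncl C a := by
    intro x hx
    simp only [Finset.mem_insert, Finset.mem_singleton] at hx
    rcases hx with rfl | rfl | rfl | rfl
    · exact h9_self_mem_ncl C _
    · exact hainv
    · exact hv
    · exact hvinv
  have hcard4 : ({a, a⁻¹, v, v⁻¹} : Finset G).card = 4 := by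
    rw [Finset.card_insert_of_notMem, Finset.card_insert_of_notMem, Finset.card_pair hvne]
    · simp only [Finset.mem_insert, Finset.mem_singleton, not_or]
      refine ⟨fun h => hva' h.symm, ?_⟩
      intro h
      exact hva (inv_injective h).symm
    · simp only [Finset.mem_insert, Finset.mem_singleton, not_or]
      refine ⟨hne, fun h => hva h.symm, ?_⟩
      intro h
      apply hva'
      rw [h, inv_inv]
  have heq4 : ({a, a⁻¹, v, v⁻¹} : Finset G) = h9_ncl C a :=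
    Finset.eq_of_subset_of_card_le hsub4 (by rw [hcard4, h9_card_ncl C ha ha1, he])
  have hA : ∀ x, x ∈ h9_ncl C a ↔ x = a ∨ x = a⁻¹ ∨ x = v ∨ x = v⁻¹ := by
    intro x
    rw [← heq4]
    simp only [Finset.mem_insert, Finset.mem_singleton]
  -- `{1} ∪ cl a ∪ cl b = K`
  have hall : insert 1 (h9_ncl C a ∪ h9_ncl C b) = h9_Kf C :=
    Finset.eq_of_subset_of_card_le (h9_insert_sub C ha hb)
      (by rw [h9_card_insert C ha ha1 hb hb1 hab, h9_card_Kf, he])
  have hB : ∀ y, y ∈ h9_ncl C b ↔ y ∈ C.K ∧ y ≠ 1 ∧ y ∉ h9_ncl C a := by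
    intro y
    constructor
    · intro hy
      refine ⟨h9_ncl_mem_K C hb hy, h9_ncl_ne_one C hb1 hy, ?_⟩
      intro hya
      exact Finset.disjoint_left.mp (h9_ncl_disjoint C hab) hya hy
    · rintro ⟨hyK, hy1, hya⟩
      have : y ∈ insert 1 (h9_ncl C a ∪ h9_ncl C b) := by
        rw [hall, h9_mem_Kf]; exact hyK
      rw [Finset.mem_insert, Finset.mem_union] at this
      rcases this with h | h | h
      · exact absurd h hy1
      · exact absurd h hya
      · exact h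
  exact h9_count_four C.K a v _ _ ha hvK ha1 ha3 hv1 hv3 hva hva' hA hB

/-! ### Transfer to the class sums in `G` and in `N` -/

/-- the `G`-class sums reduce to the `N`-class sums (via `forced`) -/
theorem h9_countG_eq {a b : G} (ha : a ∈ C.K) (ha1 : a ≠ 1) (hb : b ∈ C.K) (hb1 : b ≠ 1)
    (hab : ¬ IsConj a b) :
    ∑ x ∈ classFinset a, ∑ y ∈ classFinset b, (if x * y = a then (1 : ℂ) else 0) =
      ∑ x ∈ h9_ncl C a, ∑ y ∈ h9_ncl C b, (if x * y = a then (1 : ℂ) else 0) := by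
  have hsa : h9_ncl C a ⊆ classFinset a := by
    intro x hx
    rw [mem_classFinset]
    exact h9_ncl_isConj C hx
  have hsb : h9_ncl C b ⊆ classFinset b := by
    intro x hx
    rw [mem_classFinset]
    exact h9_ncl_isConj C hx
  symm
  rw [← Finset.sum_subset hsa]
  · apply Finset.sum_congr rfl
    intro x hx
    apply Finset.sum_subset hsb
    intro y hy hyn
    rw [if_neg]
    intro hxy
    apply hyn
    rw [mem_classFinset] at hy
    have := C.forced ha ha1 hb hab (h9_ncl_isConj C hx) hy hxy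
    exact (h9_mem_ncl_iff C hb hb1).mpr ⟨hy, this.2⟩
  · intro x hx hxn
    apply Finset.sum_eq_zero
    intro y hy
    rw [if_neg]
    intro hxy
    apply hxn
    rw [mem_classFinset] at hx hy
    have := C.forced ha ha1 hb hab hx hy hxy
    exact (h9_mem_ncl_iff C ha ha1).mpr ⟨hx, this.1⟩

/-- the class sums in `↥N` are the `N`-class sums in `G` -/
theorem h9_countN_eq [Fintype ↥(Subgroup.normalizer (C.K : Set G))]
    (a b : ↥(Subgroup.normalizer (C.K : Set G))) :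
    ∑ x ∈ classFinset a, ∑ y ∈ classFinset b, (if x * y = a then (1 : ℂ) else 0) =
      ∑ x ∈ h9_ncl C (a : G), ∑ y ∈ h9_ncl C (b : G),
        (if x * y = (a : G) then (1 : ℂ) else 0) := by
  rw [h9_ncl_eq_map C a, h9_ncl_eq_map C b, Finset.sum_map]
  apply Finset.sum_congr rfl
  intro x _
  rw [Finset.sum_map]
  apply Finset.sum_congr rfl
  intro y _
  simp only [Function.Embedding.coeFn_mk]
  have hiff : (x * y = a) ↔ ((x : G) * (y : G) = (a : G)) := by
    rw [← Subgroup.coe_mul]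
    exact Subtype.ext_iff
  by_cases h : x * y = a
  · rw [if_pos h, if_pos (hiff.mp h)]
  · rw [if_neg h, if_neg (fun h' => h (hiff.mpr h'))]

theorem countG_two (he : (C.K.subgroupOf (Subgroup.normalizer (C.K : Set G))).index = 2)
    {a b : G} (ha : a ∈ C.K) (ha1 : a ≠ 1) (hb : b ∈ C.K) (hb1 : b ≠ 1) (hab : ¬ IsConj a b) :
    ∑ x ∈ classFinset a, ∑ y ∈ classFinset b, (if x * y = a then (1 : ℂ) else 0) = 0 := by
  rw [h9_countG_eq C ha ha1 hb hb1 hab]
  exact h9_sum_two C he ha ha1 hb1 hab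

theorem countG_four (he : (C.K.subgroupOf (Subgroup.normalizer (C.K : Set G))).index = 4)
    {a b : G} (ha : a ∈ C.K) (ha1 : a ≠ 1) (hb : b ∈ C.K) (hb1 : b ≠ 1) (hab : ¬ IsConj a b) :
    ∑ x ∈ classFinset a, ∑ y ∈ classFinset b, (if x * y = a then (1 : ℂ) else 0) = 2 := by
  rw [h9_countG_eq C ha ha1 hb hb1 hab]
  exact h9_sum_four C he ha ha1 hb hb1 hab

theorem countN_two [Fintype ↥(Subgroup.normalizer (C.K : Set G))]
    (he : (C.K.subgroupOf (Subgroup.normalizer (C.K : Set G))).index = 2)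
    (a b : ↥(Subgroup.normalizer (C.K : Set G))) (ha : (a : G) ∈ C.K) (ha1 : a ≠ 1)
    (hb : (b : G) ∈ C.K) (hb1 : b ≠ 1) (hab : ¬ IsConj (a : G) (b : G)) :
    ∑ x ∈ classFinset a, ∑ y ∈ classFinset b, (if x * y = a then (1 : ℂ) else 0) = 0 := by
  rw [h9_countN_eq C a b]
  have ha1' : (a : G) ≠ 1 := fun h => ha1 (Subtype.ext h)
  have hb1' : (b : G) ≠ 1 := fun h => hb1 (Subtype.ext h)
  exact h9_sum_two C he ha ha1' hb1' hab

theorem countN_four [Fintype ↥(Subgroup.normalizer (C.K : Set G))]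
    (he : (C.K.subgroupOf (Subgroup.normalizer (C.K : Set G))).index = 4)
    (a b : ↥(Subgroup.normalizer (C.K : Set G))) (ha : (a : G) ∈ C.K) (ha1 : a ≠ 1)
    (hb : (b : G) ∈ C.K) (hb1 : b ≠ 1) (hab : ¬ IsConj (a : G) (b : G)) :
    ∑ x ∈ classFinset a, ∑ y ∈ classFinset b, (if x * y = a then (1 : ℂ) else 0) = 2 := by
  rw [h9_countN_eq C a b]
  have ha1' : (a : G) ≠ 1 := fun h => ha1 (Subtype.ext h)
  have hb1' : (b : G) ≠ 1 := fun h => hb1 (Subtype.ext h)
  exact h9_sum_four C he ha ha1' hb hb1' hab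

end R3

end Cfsg.Agent.A6U
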