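import Mathlib
import Cfsg.Agent.A6U.H4_Cases12
import Cfsg.Agent.A6U.H4_Case4
import Cfsg.Agent.A6U.H9_CountG
import Cfsg.Agent.A6U.H4_Setup
import Cfsg.Agent.S0497

/-!
# S3341: the assembly
-/

set_option autoImplicit false
set_option linter.style.haveILetI false

namespace Cfsg.Agent.A6U

open Cfsg.Agent.Helper6 Cfsg.Agent.Helper2.BrTI
open scoped ComplexConjugate

universe u

variable {G : Type u} [Group G]

/-- conjugacy in the normalizer implies conjugacy in the group -/
theorem h4_isConj_of_sub {H : Subgroup G} (a b : ↥H) (h : IsConj a b) : IsConj (a : G) (b : G) := by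
  obtain ⟨c, hc⟩ := isConj_iff.mp h
  exact isConj_iff.mpr ⟨(c : G), by rw [← hc]; simp⟩

/-- the main theorem in terms of the context -/
theorem main_of_ctx [Finite G] [IsSimpleGroup G] (C : Ctx G)
    (hdeg2 : ∀ χ : Cfsg.IrrCharacter G, χ ≠ ⟨fun _ => 1, isIrrCharacter_one⟩ →
      2 ≤ Cfsg.charDegree (χ : G → ℂ))
    (a b : G) (ha : a ∈ C.K) (ha1 : a ≠ 1) (hb : b ∈ C.K) (hb1 : b ≠ 1) (hab : ¬ IsConj a b) :
    Nat.card G = 360 := by
  classical
  haveI : Fintype G := Fintype.ofFinite G
  haveI : Fintype ↥(Subgroup.normalizer (C.K : Set G)) := Fintype.ofFinite _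
  haveI : Finite (Cfsg.IrrCharacter ↥(Subgroup.normalizer (C.K : Set G))) := irr_finite
  haveI : Fintype (Cfsg.IrrCharacter ↥(Subgroup.normalizer (C.K : Set G))) := Fintype.ofFinite _
  haveI : Fintype (Rel C.K) := Fintype.ofFinite _
  haveI : Finite (Cfsg.IrrCharacter G) := irr_finite
  haveI : Fintype (Cfsg.IrrCharacter G) := Fintype.ofFinite _
  have hle := index_le_four C ha ha1 hb hb1 hab
  set a' : ↥(Subgroup.normalizer (C.K : Set G)) := ⟨a, Subgroup.le_normalizer ha⟩ with ha'
  set b' : ↥(Subgroup.normalizer (C.K : Set G)) := ⟨b, Subgroup.le_normalizer hb⟩ with hb'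
  have ha'1 : a' ≠ 1 := fun h => ha1 (congrArg Subtype.val h)
  have hb'1 : b' ≠ 1 := fun h => hb1 (congrArg Subtype.val h)
  have hne : ¬ IsConj a' b' := fun h => hab (h4_isConj_of_sub a' b' h)
  obtain ⟨-, -, hcard⟩ := nside C.K C.hC C.hab a' ha ha'1
  rw [C.hK9] at hcard
  have hepos : 0 < (C.K.subgroupOf (Subgroup.normalizer (C.K : Set G))).index :=
    Nat.pos_of_ne_zero Subgroup.index_ne_zero_of_finite
  rcases tifrob_abelian C.K C.hTI C.hC C.hab with h | h
  · exfalso
    obtain ⟨-, q, -, -, h2⟩ := h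
    rw [C.hK9] at h2
    omega
  · obtain ⟨ε, f, hε, hf, hind⟩ := h
    let D : Data C.K := ⟨C.hTI, C.hC, C.hab, ε, hε, f, hf, hind⟩
    have hcases : (C.K.subgroupOf (Subgroup.normalizer (C.K : Set G))).index = 1 ∨
        (C.K.subgroupOf (Subgroup.normalizer (C.K : Set G))).index = 2 ∨
        (C.K.subgroupOf (Subgroup.normalizer (C.K : Set G))).index = 4 := by
      have h3 : (C.K.subgroupOf (Subgroup.normalizer (C.K : Set G))).index ≠ 3 := by
        intro h3
        rw [h3] at hcard
        omega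
      omega
    rcases hcases with he | he | he
    · exact absurd (case_one D C.hK9 he hdeg2) id
    · exfalso
      have hev : Even (C.K.subgroupOf (Subgroup.normalizer (C.K : Set G))).index := by
        rw [he]; decide
      exact case_two D C.hK9 he hdeg2 a' b' ha hb ha'1 hb'1 hne (isConj_inv_N C hev b' hb)
        (countG_two C he ha ha1 hb hb1 hab) (countN_two C he a' b' ha ha'1 hb hb'1 hab)
    · have hev : Even (C.K.subgroupOf (Subgroup.normalizer (C.K : Set G))).index := by
        rw [he]; decide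
      exact case_four D C.hK9 he hdeg2 a' b' ha hb ha'1 hb'1 hne (isConj_inv_N C hev b' hb)
        (countG_four C he ha ha1 hb hb1 hab) (countN_four C he a' b' ha ha'1 hb hb'1 hab)

/-- S3341 -/
theorem main [Finite G] [IsSimpleGroup G]
    (P : Sylow 3 G) (S : Subgroup G) (hSP : S = P) (hcomm : IsMulCommutative S)
    (hexp : ∀ a ∈ S, a ^ 3 = 1) (hcard : Nat.card S = 9)
    (hclasses : ∃ a b : G, orderOf a = 3 ∧ orderOf b = 3 ∧ ∀ g : G, g * a * g⁻¹ ≠ b)
    (hcent : ∀ s ∈ S, s ≠ 1 → Subgroup.centralizer ({s} : Set G) = S) :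
    Nonempty (G ≃* alternatingGroup (Fin 6)) := by
  obtain ⟨C, hCK, a, b, ha, ha1, hb, hb1, hab⟩ :=
    exists_ctx P S hSP hcomm hexp hcard hclasses hcent
  have h9 : 9 ∣ Nat.card G := by
    rw [← hcard]
    exact Subgroup.card_subgroup_dvd_card S
  have h360 := main_of_ctx C (two_le_degree h9) a b ha ha1 hb hb1 hab
  exact Cfsg.Agent.S0497.result h360

end Cfsg.Agent.A6U
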